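import Mathlib
import Cfsg.Agent.Phan.Emb

/-!
# `SU_N` as the universal completion of its coordinate `SU₂`'s and `SU₃`'s
-/

namespace Cfsg.Agent.Phan

open Matrix Cfsg.Agent.Cl

variable {F : Type*} [Field F] {σ : F →+* F} {q N : ℕ}

/-- The coordinates `i, …, i + k - 1`. -/
def iv {k N : ℕ} (i : ℕ) (h : i + k ≤ N) : Fin k ↪ Fin N :=
  ⟨fun a => ⟨i + a, by omega⟩, fun a b e => by simp only [Fin.ext_iff] at e ⊢; omega⟩

/-- An interval of coordinates. -/
def Iv (N i j : ℕ) : Finset (Fin N) := Finset.univ.filter fun x => i ≤ x.val ∧ x.val < j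

theorem mem_Iv {i j : ℕ} {x : Fin N} : x ∈ Iv N i j ↔ i ≤ x.val ∧ x.val < j := by simp [Iv]

theorem map_iv {k i : ℕ} (h : i + k ≤ N) : Finset.univ.map (iv i h) = Iv N i (i + k) := by
  ext x
  simp only [Finset.mem_map, Finset.mem_univ, true_and, mem_Iv]
  refine ⟨?_, fun hx => ⟨⟨x - i, by omega⟩, Fin.ext ?_⟩⟩
  · rintro ⟨a, rfl⟩
    change i ≤ i + a ∧ i + a < i + k
    omega
  · change i + (x - i) = x
    omega

theorem card_Iv {k i : ℕ} (h : i + k ≤ N) : (Iv N i (i + k)).card = k := by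
  rw [← map_iv h]; simp

theorem iv_trans {k m i j : ℕ} (h : i + k ≤ N) (h' : j + m ≤ k) :
    (iv j h').trans (iv i h) = iv (i + j) (by omega) := by
  ext a; change i + (j + a) = i + j + a; omega

section Abstract

variable {L : Type*} [Group L] {π : L →* ((Fin N → F) ≃ₗ[F] (Fin N → F))}

/-- The join of consecutive members of a family. -/
def Jn (Γ : ℕ → Subgroup L) (i j : ℕ) : Subgroup L := ⨆ (k : ℕ) (_ : i ≤ k ∧ k + 2 ≤ j), Γ k

theorem le_Jn (Γ : ℕ → Subgroup L) {i j k : ℕ} (h1 : i ≤ k) (h2 : k + 2 ≤ j) : Γ k ≤ Jn Γ i j :=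
  le_iSup₂_of_le k ⟨h1, h2⟩ le_rfl

theorem Jn_le {Γ : ℕ → Subgroup L} {i j : ℕ} {H : Subgroup L}
    (h : ∀ k, i ≤ k → k + 2 ≤ j → Γ k ≤ H) : Jn Γ i j ≤ H :=
  iSup₂_le fun k hk => h k hk.1 hk.2

theorem Jn_mono (Γ : ℕ → Subgroup L) {i j i' j' : ℕ} (h1 : i' ≤ i) (h2 : j ≤ j') :
    Jn Γ i j ≤ Jn Γ i' j' := Jn_le fun _ h3 h4 => le_Jn Γ (by omega) (by omega)

theorem Jn_two (Γ : ℕ → Subgroup L) (i : ℕ) : Jn Γ i (i + 2) = Γ i :=
  le_antisymm (Jn_le fun k h1 h2 => by rw [show k = i by omega]) (le_Jn Γ le_rfl le_rfl)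

theorem lift_chain (hq : UField σ q) (Γ : ℕ → Subgroup L)
    (h2 : ∀ i, i + 2 ≤ N → Lift σ π (Γ i) (Iv N i (i + 2)))
    (h3 : ∀ i, i + 3 ≤ N → Lift σ π (Jn Γ i (i + 3)) (Iv N i (i + 3)))
    (hc : ∀ i k, i + 2 ≤ k → k + 2 ≤ N → ∀ x ∈ Γ i, ∀ y ∈ Γ k, Commute x y)
    (h4 : 4 ≤ q ∨ (3 ≤ q ∧ ∀ i, i + 4 ≤ N → Lift σ π (Jn Γ i (i + 4)) (Iv N i (i + 4))))
    (l : ℕ) : ∀ i, i + (l + 2) ≤ N → Lift σ π (Jn Γ i (i + (l + 2))) (Iv N i (i + (l + 2))) := by
  induction l using Nat.strong_induction_on with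
  | _ l ih =>
  intro i hi
  obtain rfl | rfl | hl : l = 0 ∨ l = 1 ∨ 2 ≤ l := by omega
  · rw [Jn_two]; exact h2 i hi
  · exact h3 i hi
  by_cases hb : l = 2 ∧ ¬ 4 ≤ q
  · obtain ⟨rfl, hb⟩ := hb
    exact (h4.resolve_left hb).2 i hi
  obtain ⟨m, rfl⟩ : ∃ m, l = m + 2 := ⟨l - 2, by omega⟩
  have lA := ih (m + 1) (by omega) i (by omega)
  have lB := ih (m + 1) (by omega) (i + 1) (by omega)
  have lC := ih m (by omega) (i + 1) (by omega)
  have lE := ih m (by omega) (i + 2) (by omega)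
  have H : Glue σ π (Jn Γ i (i + (m + 1 + 2))) (Jn Γ (i + 1) (i + 1 + (m + 1 + 2)))
      (Iv N i (i + (m + 2 + 2))) ⟨i, by omega⟩ ⟨i + 1, by omega⟩ ⟨i + (m + 3), by omega⟩ :=
    { ha := by simp [mem_Iv]
      hb := by simp [mem_Iv]
      hz := by simp [mem_Iv]
      ab := by simp [Fin.ext_iff]
      az := by simp [Fin.ext_iff]
      bz := by simp [Fin.ext_iff]
      card := by rw [card_Iv hi]; omega
      lA := by
        convert lA using 1
        ext x; simp only [Finset.mem_erase, mem_Iv, Ne, Fin.ext_iff]; omega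
      lB := by
        convert lB using 1
        ext x; simp only [Finset.mem_erase, mem_Iv, Ne, Fin.ext_iff]; omega
      AB := fun g hg h => by
        refine Jn_mono Γ le_rfl (by omega) (lA.mem_of_le lC (Jn_mono Γ (by omega) (by omega)) hg ?_)
        convert mem_Blk_erase.2 ⟨lA.mem g hg, h⟩ using 2
        ext x; simp only [Finset.mem_erase, mem_Iv, Ne, Fin.ext_iff]; omega
      comm := fun g hg hg' h hh hh' => by
        have m1 : g ∈ Γ i := by
          refine lA.mem_of_le (h2 i (by omega)) (le_Jn Γ le_rfl (by omega)) hg ?_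
          convert hg' using 2
          ext x; simp only [Finset.mem_insert, Finset.mem_singleton, mem_Iv, Fin.ext_iff]; omega
        have m2 : h ∈ Jn Γ (i + 2) (i + 2 + (m + 2)) := by
          refine lB.mem_of_le lE (Jn_mono Γ (by omega) (by omega)) hh ?_
          convert mem_Blk_erase.2 ⟨lB.mem h hh, hh'⟩ using 2
          ext x; simp only [Finset.mem_erase, mem_Iv, Ne, Fin.ext_iff]; omega
        have : Jn Γ (i + 2) (i + 2 + (m + 2)) ≤ Subgroup.centralizer {g} := Jn_le fun k k1 k2 y hy =>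
          Subgroup.mem_centralizer_singleton_iff.2 (hc i k k1 (by omega) g m1 y hy).symm
        exact (Subgroup.mem_centralizer_singleton_iff.1 (this m2)).symm }
  have := H.lift hq (by rw [card_Iv hi]; omega)
  convert this using 1
  refine le_antisymm (Jn_le fun k k1 k2 => ?_)
    (sup_le (Jn_mono Γ le_rfl (by omega)) (Jn_mono Γ (by omega) (by omega)))
  by_cases e : k = i
  · exact le_sup_of_le_left (le_Jn Γ k1 (by omega))
  · exact le_sup_of_le_right (le_Jn Γ (by omega) (by omega))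

end Abstract

variable {G : Type*} [Group G]

theorem commute_embU (hq : UField σ q) {k m : ℕ} (j : Fin k ↪ Fin N) (j' : Fin m ↪ Fin N)
    (h : ∀ a b, j a ≠ j' b) (s : SU k F q) (t : SU m F q) :
    Commute (embU hq j s) (embU hq j' t) := by
  have e : (pm F j)ᵀ * pm F j' = 0 := by
    ext a b; simp [pm, mul_apply, (h _ _).symm]
  have e' : (pm F j')ᵀ * pm F j = 0 := by
    ext a b; simp [pm, mul_apply, h]
  refine su_ext ?_
  simp only [mat_mul, mat_embU, embM, add_mul, mul_add, one_mul, mul_one, Matrix.mul_assoc]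
  rw [← Matrix.mul_assoc (pm F j)ᵀ, e, ← Matrix.mul_assoc (pm F j')ᵀ, e']
  simp only [Matrix.zero_mul, Matrix.mul_zero, add_zero]
  abel

/-- The upper block in `SU₃`. -/
abbrev upU (hq : UField σ q) : SU 2 F q →* SU 3 F q := embU hq (iv 0 (by omega))
/-- The lower block in `SU₃`. -/
abbrev loU (hq : UField σ q) : SU 2 F q →* SU 3 F q := embU hq (iv 1 (by omega))

theorem exists_hom_chain (hq : UField σ q) (hN : 2 ≤ N) (φ : ℕ → SU 2 F q →* G)
    (ρ : ℕ → SU 3 F q →* G) (hup : ∀ i, i + 3 ≤ N → (ρ i).comp (upU hq) = φ i)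
    (hlo : ∀ i, i + 3 ≤ N → (ρ i).comp (loU hq) = φ (i + 1))
    (hc : ∀ i k, i + 2 ≤ k → k + 2 ≤ N → ∀ s t, Commute (φ i s) (φ k t))
    (h4 : 4 ≤ q ∨ (3 ≤ q ∧ ∀ i, i + 4 ≤ N → ∃ f : SU 4 F q →* G, ∀ (j : ℕ) (hj : j + 2 ≤ 4),
      f.comp (embU hq (iv j hj)) = φ (i + j))) :
    ∃ f : SU N F q →* G, (∀ i, i + 2 ≤ N → (φ i).range ≤ f.range) ∧
      ∀ i, i + 3 ≤ N → (ρ i).range ≤ f.range := by
  have h3 : 3 ≤ q := by omega
  let Γ : ℕ → Subgroup (SU N F q × G) := fun i => if h : i + 2 ≤ N then gr hq (iv i h) (φ i) else ⊥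
  have hΓ : ∀ i (h : i + 2 ≤ N), Γ i = gr hq (iv i h) (φ i) := fun i h => dif_pos h
  have l2 : ∀ i, i + 2 ≤ N → Lift σ (piG F q N G) (Γ i) (Iv N i (i + 2)) := fun i h => by
    rw [hΓ i h, ← map_iv h]; exact lift_gr hq _ _
  -- a graph over an interval that contains the small graphs is their join
  have key : ∀ (k i : ℕ) (h : i + (k + 2) ≤ N) (f : SU (k + 2) F q →* G),
      (∀ (j : ℕ) (hj : j + 2 ≤ k + 2), f.comp (embU hq (iv j hj)) = φ (i + j)) →
      Jn Γ i (i + (k + 2)) ≤ gr hq (iv i h) f := by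
    intro k i h f hf
    refine Jn_le fun j j1 j2 => ?_
    obtain ⟨j, rfl⟩ : ∃ j', j = i + j' := ⟨j - i, by omega⟩
    rw [hΓ _ (by omega), ← hf j (by omega), ← iv_trans h (by omega)]
    exact gr_le hq _ _ _
  have e3 : ∀ i (h : i + 3 ≤ N), Jn Γ i (i + 3) = gr hq (iv i h) (ρ i) := by
    intro i h
    have le := key 1 i h (ρ i) fun j hj => by
      obtain rfl | rfl : j = 0 ∨ j = 1 := by omega
      · exact hup i h
      · exact hlo i h
    refine le_antisymm le ?_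
    have l := lift_gr hq (iv i h) (ρ i)
    rw [map_iv h] at l
    refine l.induction (blk_eq_sup hq h3 (by rw [card_Iv h]) (a := ⟨i, by omega⟩)
      (b := ⟨i + 1, by omega⟩) (by simp [mem_Iv]) (by simp [mem_Iv]) (by simp [Fin.ext_iff]))
      (fun g hg h' => ?_) (fun g hg h' => ?_)
    · refine le_Jn Γ (k := i + 1) (by omega) (by omega) (l.mem_of_le (l2 (i + 1) (by omega))
        ((le_Jn Γ (by omega) (by omega)).trans le) hg ?_)
      convert h' using 2
      ext x; simp only [Finset.mem_erase, mem_Iv, Ne, Fin.ext_iff]; omega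
    · refine le_Jn Γ (k := i) (by omega) (by omega) (l.mem_of_le (l2 i (by omega))
        ((le_Jn Γ (by omega) (by omega)).trans le) hg ?_)
      convert h' using 2
      ext x; simp only [Finset.mem_insert, Finset.mem_singleton, mem_Iv, Fin.ext_iff]; omega
  have l3 : ∀ i, i + 3 ≤ N → Lift σ (piG F q N G) (Jn Γ i (i + 3)) (Iv N i (i + 3)) :=
    fun i h => by rw [e3 i h, ← map_iv h]; exact lift_gr hq _ _
  have main := lift_chain hq Γ l2 l3 (fun i k h1 h2 x hx y hy => by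
      rw [hΓ i (by omega)] at hx
      rw [hΓ k h2] at hy
      obtain ⟨s, rfl⟩ := hx
      obtain ⟨t, rfl⟩ := hy
      exact Prod.ext (commute_embU hq _ _ (fun a b e => by
        have : i + a = k + b := congrArg Fin.val e
        omega) s t).eq (hc i k h1 h2 s t).eq)
    (h4.imp_right fun h => ⟨h.1, fun i hi => by
      obtain ⟨f, hf⟩ := h.2 i hi
      have le := key 2 i hi f hf
      have l := lift_gr hq (iv i hi) f
      rw [map_iv hi] at l
      refine ⟨fun g hg => l.mem g (le hg), fun k hk => ?_, fun g hg => l.inj g (le hg)⟩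
      obtain ⟨g, hg, rfl⟩ := l.surj k hk
      refine ⟨g, l.induction (blk_eq_sup hq h3 (by rw [card_Iv hi]; omega) (a := ⟨i, by omega⟩)
        (b := ⟨i + 1, by omega⟩) (by simp [mem_Iv]) (by simp [mem_Iv]) (by simp [Fin.ext_iff]))
        (fun g hg h' => ?_) (fun g hg h' => ?_) hg, rfl⟩
      · refine Jn_mono Γ (i := i + 1) (j := i + 1 + 3) (by omega) (by omega)
          (l.mem_of_le (l3 (i + 1) (by omega)) ((Jn_mono Γ (by omega) (by omega)).trans le) hg ?_)
        convert h' using 2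
        ext x; simp only [Finset.mem_erase, mem_Iv, Ne, Fin.ext_iff]; omega
      · refine le_Jn Γ (k := i) (by omega) (by omega) (l.mem_of_le (l2 i (by omega))
          ((le_Jn Γ (by omega) (by omega)).trans le) hg ?_)
        convert h' using 2
        ext x; simp only [Finset.mem_insert, Finset.mem_singleton, mem_Iv, Fin.ext_iff]; omega⟩)
    (N - 2) 0 (by omega)
  rw [show 0 + (N - 2 + 2) = N by omega,
    show Iv N 0 N = Finset.univ by ext x; simp [mem_Iv]] at main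
  obtain ⟨f, hf⟩ := main.exists_hom hq
  refine ⟨f, fun i hi => ?_, fun i hi => ?_⟩
  · rintro _ ⟨s, rfl⟩
    exact ⟨_, hf _ (le_Jn Γ (k := i) (by omega) hi (by rw [hΓ i hi]; exact ⟨s, rfl⟩))⟩
  · rintro _ ⟨s, rfl⟩
    exact ⟨_, hf _ (Jn_mono Γ (i := i) (j := i + 3) (by omega) hi
      (by rw [e3 i hi]; exact ⟨s, rfl⟩))⟩

end Cfsg.Agent.Phan
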