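import Mathlib
import Cfsg.Agent.Phan.Chain
import Cfsg.Agent.Phan.CTTree
import Cfsg.Agent.Cl.AutField
import Cfsg.Agent.Cl.UModel
import Cfsg.Agent.Cl.Transport

/-!
# Automorphisms of `SU₂` and their extension to `SU₃`
-/

namespace Cfsg.Agent.Phan

open Matrix Cfsg.Agent.Cl

variable {F : Type*} [Field F] {σ : F →+* F} {q n : ℕ}

theorem exists_sl2_model (hq : UField σ q) :
    ∃ (P : Matrix (Fin 2) (Fin 2) F) (ψ : S2 (uFix σ) ≃* SU 2 F q), P.det ≠ 0 ∧
      ∀ g, mat (ψ g) * P = P * g.1.map (uFix σ).subtype := by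
  have := hq.finite
  have hB := hq.isHerm_uStd (Fin 2)
  obtain ⟨e, f, hef⟩ := hB.exists_uHypPair' (by simp)
  obtain ⟨θ, hθ0, hθ⟩ := hq.invol.exists_trace_zero
  obtain ⟨φ, hφ⟩ := hB.exists_slTwo_equiv (by simp) hef hθ0 hθ (uFix σ).subtype
    (fun a => ⟨by rintro ⟨k, rfl⟩; exact k.2, fun h => ⟨⟨a, h⟩, rfl⟩⟩)
  refine ⟨!![e 0, θ * f 0; e 1, θ * f 1], φ.trans (hq.suEquiv 2).symm, fun h => ?_, fun g => ?_⟩
  · have h1 := hef.left
    have h3 := hef.pair'
    simp only [uStd_apply, Fin.sum_univ_two] at h1 h3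
    have h4 : e 0 * f 1 - f 0 * e 1 = 0 := by
      rw [det_fin_two_of] at h
      exact (mul_eq_zero.1 (show θ * _ = 0 by linear_combination h)).resolve_left hθ0
    have a0 : e 0 = 0 := by linear_combination (-e 0) * h3 + f 0 * h1 + σ (e 1) * h4
    have a1 : e 1 = 0 := by linear_combination (-e 1) * h3 + f 1 * h1 - σ (e 0) * h4
    simp [a0, a1] at h3
  · have k1 := hq.suEquiv_symm_mulVec (φ g) e
    have k2 := hq.suEquiv_symm_mulVec (φ g) f
    rw [(hφ g).1] at k1
    rw [(hφ g).2] at k2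
    have l1 := fun i => congrFun k1 i
    have l2 := fun i => congrFun k2 i
    simp only [mulVec, dotProduct, Fin.sum_univ_two, Pi.add_apply, Pi.smul_apply, smul_eq_mul]
      at l1 l2
    ext i j
    fin_cases j
    · have := l1 i
      fin_cases i <;> simp [mul_apply, Fin.sum_univ_two] at this ⊢ <;> linear_combination this
    · have := l2 i
      fin_cases i <;> simp [mul_apply, Fin.sum_univ_two] at this ⊢ <;> field_simp at this <;>
        linear_combination this

theorem exists_ext_aut [Finite F] (K : Subfield F) (τ₀ : K ≃+* K) :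
    ∃ τ : F ≃+* F, ∀ x : K, τ x = τ₀ x := by
  obtain ⟨p, hp⟩ := CharP.exists F
  have : Fact p.Prime := ⟨CharP.char_is_prime F p⟩
  have := Fintype.ofFinite K
  obtain ⟨f, -, hf⟩ := FiniteField.card K p
  obtain ⟨φ, h1, -, h2⟩ := Aut.exists_frob (F := K) p (f := f) (by rw [Nat.card_eq_fintype_card, hf])
  obtain ⟨k, rfl⟩ := h2 τ₀
  refine ⟨iterateFrobeniusEquiv F p k, fun x => ?_⟩
  rw [iterateFrobeniusEquiv_def]
  induction k generalizing x with
  | zero => simp
  | succ k ih => rw [pow_succ φ, RingAut.mul_apply, ← ih, h1, pow_succ' p, pow_mul]; rfl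

theorem exists_aut_su2 (hq : UField σ q) (α : SU 2 F q ≃* SU 2 F q) :
    ∃ (h : Matrix (Fin 2) (Fin 2) F) (τ : F ≃+* F), h.det ≠ 0 ∧
      ∀ s, mat (α s) * h = h * (mat s).map τ := by
  have := hq.finite
  obtain ⟨P, ψ, hP, hψ⟩ := exists_sl2_model hq
  obtain ⟨g, τ₀, hg⟩ := exists_aut_sl2 (ψ.trans (α.trans ψ.symm))
  obtain ⟨τ, hτ⟩ := exists_ext_aut _ τ₀
  have hP' : (P.map τ).det ≠ 0 := by
    rw [← RingEquiv.coe_toRingHom, ← RingHom.mapMatrix_apply, ← RingHom.map_det]
    exact (map_ne_zero _).2 hP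
  have hg0 : (g.1.map (uFix σ).subtype).det ≠ 0 := by
    rw [← RingHom.mapMatrix_apply, ← RingHom.map_det]
    exact (map_ne_zero _).2 g.det_ne_zero
  have hu := (isUnit_iff_ne_zero.2 hP')
  refine ⟨P * g.1.map (uFix σ).subtype * (P.map τ)⁻¹, τ, ?_, fun s => ?_⟩
  · rw [det_mul, det_mul, det_nonsing_inv]
    exact mul_ne_zero (mul_ne_zero hP hg0) (by simpa using hP')
  · obtain ⟨x, rfl⟩ := ψ.surjective s
    have e1 := mul_eq_of_aut hg x
    have e2 := hψ (ψ.symm (α (ψ x)))
    rw [MulEquiv.apply_symm_apply] at e2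
    have e3 : (mat (ψ x)).map τ * P.map τ = P.map τ * (x.1.map τ₀).map (uFix σ).subtype := by
      rw [← RingEquiv.coe_toRingHom τ, ← Matrix.map_mul, hψ, Matrix.map_mul]
      congr 1
      ext i j; exact hτ _
    have e4 : (ψ.symm (α (ψ x))).1.map (uFix σ).subtype * g.1.map (uFix σ).subtype =
        g.1.map (uFix σ).subtype * (x.1.map τ₀).map (uFix σ).subtype := by
      rw [← Matrix.map_mul, ← Matrix.map_mul]; exact congrArg (·.map (uFix σ).subtype) e1
    have e5 : (x.1.map τ₀).map (uFix σ).subtype * (P.map τ)⁻¹ =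
        (P.map τ)⁻¹ * (mat (ψ x)).map τ := by
      calc _ = (P.map τ)⁻¹ * (P.map τ * (x.1.map τ₀).map (uFix σ).subtype) * (P.map τ)⁻¹ := by
            rw [nonsing_inv_mul_cancel_left _ _ hu]
        _ = _ := by rw [← e3, mul_assoc, mul_nonsing_inv_cancel_right _ _ hu]
    simp only [← mul_assoc]
    rw [e2, mul_assoc P, e4, ← mul_assoc, mul_assoc _ _ (P.map τ)⁻¹, e5, ← mul_assoc]

/-! ### Conjugation by unitary matrices and field automorphisms -/

theorem map_map_σ (hq : UField σ q) {ι κ : Type*} (M : Matrix ι κ F) : (M.map σ).map σ = M := by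
  ext i j; exact hq.invol.invol _

theorem star_mul_of_unitary {U : Matrix (Fin n) (Fin n) F} (hU : Uᵀ * U.map σ = 1) :
    (U.map σ)ᵀ * U = 1 := by
  simpa [transpose_mul] using congrArg transpose hU

theorem unitary_star (hq : UField σ q) {U : Matrix (Fin n) (Fin n) F} (hU : Uᵀ * U.map σ = 1) :
    ((U.map σ)ᵀ)ᵀ * ((U.map σ)ᵀ).map σ = 1 := by
  rw [transpose_transpose, transpose_map, map_map_σ hq]; exact mul_eq_one_comm.1 hU

/-- Conjugation by a unitary matrix. -/
def cjH (hq : UField σ q) (U : Matrix (Fin n) (Fin n) F) (hU : Uᵀ * U.map σ = 1) :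
    SU n F q →* SU n F q where
  toFun g := mkU hq (U * mat g * (U.map σ)ᵀ)
    (by
      rw [det_mul_comm, ← mul_assoc, star_mul_of_unitary hU, one_mul]; exact g.1.2)
    (by
      rw [transpose_mul, transpose_mul, Matrix.map_mul, Matrix.map_mul]
      calc _ = ((U.map σ)ᵀ)ᵀ * ((mat g)ᵀ * (Uᵀ * U.map σ) * (mat g).map σ) *
            ((U.map σ)ᵀ).map σ := by simp only [mul_assoc]
        _ = 1 := by rw [hU, mul_one, mat_unitary hq, mul_one, unitary_star hq hU])
  map_one' := su_ext (by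
    rw [mat_mkU, mat_one, mul_one]; exact mul_eq_one_comm.1 (star_mul_of_unitary hU))
  map_mul' g h := su_ext (by
    simp only [mat_mul, mat_mkU]
    calc _ = U * mat g * ((U.map σ)ᵀ * U) * mat h * (U.map σ)ᵀ := by
          rw [star_mul_of_unitary hU, mul_one, mul_assoc U (mat g)]
      _ = _ := by simp only [mul_assoc])

/-- Conjugation by a unitary matrix, as an automorphism. -/
def cjU (hq : UField σ q) (U : Matrix (Fin n) (Fin n) F) (hU : Uᵀ * U.map σ = 1) :
    SU n F q ≃* SU n F q :=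
  { cjH hq U hU with
    invFun := cjH hq _ (unitary_star hq hU)
    left_inv := fun g => su_ext (by
      change (U.map σ)ᵀ * (U * mat g * (U.map σ)ᵀ) * (((U.map σ)ᵀ).map σ)ᵀ = _
      rw [transpose_map, map_map_σ hq, transpose_transpose]
      calc _ = ((U.map σ)ᵀ * U) * mat g * ((U.map σ)ᵀ * U) := by simp only [mul_assoc]
        _ = _ := by rw [star_mul_of_unitary hU, one_mul, mul_one])
    right_inv := fun g => su_ext (by
      change U * ((U.map σ)ᵀ * mat g * (((U.map σ)ᵀ).map σ)ᵀ) * (U.map σ)ᵀ = _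
      rw [transpose_map, map_map_σ hq, transpose_transpose]
      calc _ = (U * (U.map σ)ᵀ) * mat g * (U * (U.map σ)ᵀ) := by simp only [mul_assoc]
        _ = _ := by rw [mul_eq_one_comm.1 (star_mul_of_unitary hU), one_mul, mul_one]) }

theorem mat_cjU (hq : UField σ q) (U : Matrix (Fin n) (Fin n) F) (hU : Uᵀ * U.map σ = 1)
    (g : SU n F q) : mat (cjU hq U hU g) = U * mat g * (U.map σ)ᵀ := rfl

theorem unitary_diagonal {d : Fin n → F} (hd : ∀ i, d i * σ (d i) = 1) :
    (diagonal d)ᵀ * (diagonal d).map σ = 1 := by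
  rw [diagonal_map (map_zero σ), diagonal_transpose, diagonal_mul_diagonal]; simp [hd]

/-- Conjugation by a diagonal unitary matrix. -/
def dgU (hq : UField σ q) (d : Fin n → F) (hd : ∀ i, d i * σ (d i) = 1) : SU n F q ≃* SU n F q :=
  cjU hq (diagonal d) (unitary_diagonal hd)

theorem mat_dgU (hq : UField σ q) (d : Fin n → F) (hd : ∀ i, d i * σ (d i) = 1) (g : SU n F q)
    (i j : Fin n) : mat (dgU hq d hd g) i j = d i * mat g i j * σ (d j) := by
  rw [dgU, mat_cjU, diagonal_map (map_zero σ), diagonal_transpose, mul_diagonal, diagonal_mul]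

theorem mat_suMapEquiv (τ : F ≃+* F) (g : SU n F q) :
    mat (suMapEquiv n q τ g) = (mat g).map τ := rfl

theorem suMapEquiv_embU (hq : UField σ q) {k : ℕ} (j : Fin k ↪ Fin n) (τ : F ≃+* F)
    (g : SU k F q) : suMapEquiv n q τ (embU hq j g) = embU hq j (suMapEquiv k q τ g) :=
  su_ext (embM_map j.injective (mat g) (τ : F →+* F))

theorem dgU_embU (hq : UField σ q) {k : ℕ} (j : Fin k ↪ Fin n) (d : Fin n → F)
    (hd : ∀ i, d i * σ (d i) = 1) (g : SU k F q) :
    dgU hq d hd (embU hq j g) = embU hq j (dgU hq (d ∘ j) (fun _ => hd _) g) :=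
  su_ext (eq_embM j.injective
    (fun a b => by rw [mat_dgU, mat_dgU, mat_embU, embM_apply j.injective]; rfl)
    fun x hx l => by
      rw [mat_dgU, mat_dgU, mat_embU, embM_apply_left j _ hx, embM_apply_right j _ l hx]
      by_cases e : x = l
      · subst e; simp [hd]
      · simp [e, Ne.symm e])

theorem dgU_const (hq : UField σ q) {d : Fin n → F} (hd : ∀ i, d i * σ (d i) = 1)
    (h : ∀ i j, d i = d j) (g : SU n F q) : dgU hq d hd g = g := su_ext (by
  ext i j; rw [mat_dgU, h i j]; linear_combination mat g i j * hd j)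

theorem map_comm_σ (hq : UField σ q) (τ : F ≃+* F) (a : F) : τ (σ a) = σ (τ a) := by
  rw [hq.pow, hq.pow, map_pow]

/-- The conjugation as a field automorphism. -/
noncomputable def σE (hq : UField σ q) : F ≃+* F := RingEquiv.ofBijective σ hq.invol.bijective

/-! ### The entries of `SU₂` -/

theorem su2_entries (hq : UField σ q) (s : SU 2 F q) :
    mat s 1 0 = -σ (mat s 0 1) ∧ mat s 1 1 = σ (mat s 0 0) := by
  have h : (mat s).map σ * (mat s)ᵀ = 1 := mul_eq_one_comm.1 (mat_unitary hq s)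
  have h1 := congrFun (congrFun h 0) 0
  have h2 := congrFun (congrFun h 0) 1
  have hd : (mat s).det = 1 := s.1.2
  rw [det_fin_two] at hd
  simp [mul_apply, Fin.sum_univ_two] at h1 h2
  constructor
  · linear_combination (-mat s 1 0) * h1 + mat s 0 0 * h2 - σ (mat s 0 1) * hd
  · linear_combination (-mat s 1 1) * h1 + mat s 0 1 * h2 + σ (mat s 0 0) * hd

/-- The element `[[a, b], [-b̄, ā]]` of `SU₂`. -/
def su2 (hq : UField σ q) (a b : F) (h : a * σ a + b * σ b = 1) : SU 2 F q :=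
  mkU hq !![a, b; -σ b, σ a] (by rw [det_fin_two_of]; linear_combination h) (by
    ext i j
    fin_cases i <;> fin_cases j <;> simp [mul_apply, Fin.sum_univ_two, hq.invol.invol] <;>
      first | linear_combination h | ring)

theorem mat_su2 (hq : UField σ q) (a b : F) (h : a * σ a + b * σ b = 1) :
    mat (su2 hq a b h) = !![a, b; -σ b, σ a] := rfl

/-- A diagonal element of `SU₂`. -/
def dg2 (hq : UField σ q) (a : F) (h : a * σ a = 1) : SU 2 F q := su2 hq a 0 (by simp [h])

theorem mat_dg2 (hq : UField σ q) (a : F) (h : a * σ a = 1) :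
    mat (dg2 hq a h) = !![a, 0; 0, σ a] := by simp [dg2, mat_su2]

/-- The Weyl element. -/
def w2 (hq : UField σ q) : SU 2 F q := su2 hq 0 1 (by simp)

theorem mat_w2 (hq : UField σ q) : mat (w2 hq) = !![0, 1; -1, 0] := by simp [w2, mat_su2]

/-- An automorphism of `SU₂` induced by a monomial matrix is diagonal times field. -/
theorem exists_diag_of_monomial (hq : UField σ q) {α : SU 2 F q → SU 2 F q}
    {h : Matrix (Fin 2) (Fin 2) F} {τ : F ≃+* F} (h0 : h.det ≠ 0)
    (hα : ∀ s, mat (α s) * h = h * (mat s).map τ)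
    (hm : (h 0 1 = 0 ∧ h 1 0 = 0) ∨ (h 0 0 = 0 ∧ h 1 1 = 0)) :
    ∃ (u : F) (hu : ∀ i, ![u, 1] i * σ (![u, 1] i) = 1) (τ' : F ≃+* F),
      ∀ s, α s = dgU hq ![u, 1] hu (suMapEquiv 2 q τ' s) := by
  wlog hd : h 0 1 = 0 ∧ h 1 0 = 0 generalizing h τ
  · have hm := hm.resolve_left hd
    refine this (h := h * !![0, -1; 1, 0]) (τ := τ.trans (σE hq)) (by simpa using h0) (fun s => ?_)
      (Or.inl ?_) ?_
    · rw [← mul_assoc, hα, mul_assoc, mul_assoc]
      congr 1
      obtain ⟨e1, e2⟩ := su2_entries hq s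
      ext i j
      fin_cases i <;> fin_cases j <;>
        simp [mul_apply, Fin.sum_univ_two, σE, e1, e2, map_comm_σ hq, hq.invol.invol]
    all_goals simp [mul_apply, Fin.sum_univ_two, hm.1, hm.2]
  rw [det_fin_two, hd.1, zero_mul, sub_zero] at h0
  have a0 := left_ne_zero_of_mul h0
  have a1 := right_ne_zero_of_mul h0
  have e : ∀ s i j, mat (α s) i j * h j j = h i i * τ (mat s i j) := fun s i j => by
    have := congrFun (congrFun (hα s) i) j
    fin_cases i <;> fin_cases j <;> simpa [mul_apply, Fin.sum_univ_two, hd.1, hd.2] using this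
  have hu : h 0 0 / h 1 1 * σ (h 0 0 / h 1 1) = 1 := by
    have e1 := e (w2 hq) 0 1
    have e2 := e (w2 hq) 1 0
    rw [(su2_entries hq _).1] at e2
    simp [mat_w2] at e1 e2
    have e3 : mat (α (w2 hq)) 0 1 = h 0 0 / h 1 1 := by rw [eq_div_iff a1, e1]
    rw [← e3]
    apply mul_right_cancel₀ a0
    rw [mul_assoc, e2, e1, one_mul]
  refine ⟨h 0 0 / h 1 1, fun i => by fin_cases i <;> simp [-map_div₀, hu], τ,
    fun s => su_ext ?_⟩
  ext i j
  rw [mat_dgU, mat_suMapEquiv, map_apply]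
  have := e s i j
  have hs : σ (h 0 0 / h 1 1) = h 1 1 / h 0 0 := by
    rw [eq_inv_of_mul_eq_one_right hu, inv_div]
  have hj : h j j ≠ 0 := by fin_cases j <;> assumption
  rw [← eq_div_iff hj] at this
  rw [this]
  fin_cases i <;> fin_cases j <;> simp [-map_div₀, hs] <;> field_simp

end Cfsg.Agent.Phan
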