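import Mathlib
import Cfsg.Agent.Phan.AutSU2

/-!
# Standard pairs of `SU₂`'s and their coherent parametrisation
-/

namespace Cfsg.Agent.Phan

open Matrix Cfsg.Agent.Cl

variable {F : Type*} [Field F] {σ : F →+* F} {q : ℕ} {G : Type*} [Group G]

theorem mat_upU (hq : UField σ q) (s : SU 2 F q) : mat (upU hq s) =
    !![mat s 0 0, mat s 0 1, 0; mat s 1 0, mat s 1 1, 0; 0, 0, 1] :=
  (eq_embM (iv 0 _).injective (fun a b => by fin_cases a <;> fin_cases b <;> rfl) fun k hk l => by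
    fin_cases k
    · exact absurd rfl (hk 0)
    · exact absurd rfl (hk 1)
    · fin_cases l <;> simp).symm

theorem mat_loU (hq : UField σ q) (s : SU 2 F q) : mat (loU hq s) =
    !![1, 0, 0; 0, mat s 0 0, mat s 0 1; 0, mat s 1 0, mat s 1 1] :=
  (eq_embM (iv 1 _).injective (fun a b => by fin_cases a <;> fin_cases b <;> rfl) fun k hk l => by
    fin_cases k
    · fin_cases l <;> simp
    · exact absurd rfl (hk 0)
    · exact absurd rfl (hk 1)).symm

/-- A proper block meets the centre trivially. -/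
theorem eq_one_of_embU_mem_center (hq : UField σ q) {k n : ℕ} (hn : 2 ≤ n) (j : Fin k ↪ Fin n)
    {x : Fin n} (hx : ∀ a, x ≠ j a) {s : SU k F q} (h : embU hq j s ∈ Subgroup.center _) :
    s = 1 := by
  obtain ⟨a, ha⟩ := (hq.mem_center_SU_iff hn).1 h
  have e : mat (embU hq j s) x x = 1 := by rw [mat_embU, embM_apply_left j _ hx, one_apply_eq]
  have e' : mat (embU hq j s) = a • 1 := ha
  rw [e'] at e
  apply embU_injective hq j
  rw [map_one]
  apply su_ext
  rw [e', show a = 1 by simpa using e, one_smul, mat_one]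

/-- `ρ` exhibits `(A, B)` as a standard pair in `V`. -/
structure StdU (hq : UField σ q) (ρ : SU 3 F q →* G) (A B V : Subgroup G) : Prop where
  ker : ∀ g, ρ g = 1 → g ∈ Subgroup.center (SU 3 F q)
  rA : (ρ.comp (upU hq)).range = A
  rB : (ρ.comp (loU hq)).range = B
  rV : ρ.range = V

theorem exists_stdU (hq : UField σ q) {V A B : Subgroup G} (h : IsStandardUnitaryPair V A B F q) :
    ∃ ρ, StdU hq ρ A B V := by
  have e1 : suBlock 3 F q {0, 1} = (upU hq).range := suBlock_eq_range hq _ (by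
    ext x; simp only [Set.mem_insert_iff, Set.mem_singleton_iff, Set.mem_range]; revert x; decide)
  have e2 : suBlock 3 F q {1, 2} = (loU hq).range := suBlock_eq_range hq _ (by
    ext x; simp only [Set.mem_insert_iff, Set.mem_singleton_iff, Set.mem_range]; revert x; decide)
  rcases h with ⟨ψ, h1, h2⟩ | ⟨ψ, h1, h2⟩
  · refine ⟨V.subtype.comp ψ.toMonoidHom, fun g hg => ?_, ?_, ?_, ?_⟩
    · have : ψ g = 1 := Subtype.ext hg
      rw [ψ.map_eq_one_iff.1 this]; exact Subgroup.one_mem _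
    · rw [MonoidHom.range_comp, ← e1, h1]
    · rw [MonoidHom.range_comp, ← e2, h2]
    · rw [MonoidHom.range_comp, MonoidHom.range_eq_top.2 ψ.surjective, ← MonoidHom.range_eq_map,
        Subgroup.range_subtype]
  · refine ⟨V.subtype.comp (ψ.toMonoidHom.comp (QuotientGroup.mk' _)), fun g hg => ?_, ?_, ?_, ?_⟩
    · have : ψ (QuotientGroup.mk' _ g) = 1 := Subtype.ext hg
      exact (QuotientGroup.eq_one_iff g).1 (ψ.map_eq_one_iff.1 this)
    · rw [MonoidHom.range_comp, ← e1, h1]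
    · rw [MonoidHom.range_comp, ← e2, h2]
    · rw [MonoidHom.range_comp, MonoidHom.range_eq_top.2
        (ψ.surjective.comp (QuotientGroup.mk'_surjective _)), ← MonoidHom.range_eq_map,
        Subgroup.range_subtype]

namespace StdU

variable {hq : UField σ q} {ρ ρ' : SU 3 F q →* G} {A B C V V' : Subgroup G}

theorem inj_up (h : StdU hq ρ A B V) : Function.Injective (ρ.comp (upU hq)) :=
  (injective_iff_map_eq_one _).2 fun _ hs => eq_one_of_embU_mem_center hq (by omega) _ (x := 2)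
    (by decide) (h.ker _ hs)

theorem inj_lo (h : StdU hq ρ A B V) : Function.Injective (ρ.comp (loU hq)) :=
  (injective_iff_map_eq_one _).2 fun _ hs => eq_one_of_embU_mem_center hq (by omega) _ (x := 0)
    (by decide) (h.ker _ hs)

theorem up_mem (h : StdU hq ρ A B V) (s : SU 2 F q) : ρ (upU hq s) ∈ A := h.rA ▸ ⟨s, rfl⟩

theorem lo_mem (h : StdU hq ρ A B V) (s : SU 2 F q) : ρ (loU hq s) ∈ B := h.rB ▸ ⟨s, rfl⟩

theorem exists_up (h : StdU hq ρ A B V) {x : G} (hx : x ∈ A) : ∃ s, ρ (upU hq s) = x := by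
  rw [← h.rA] at hx; exact hx

theorem exists_lo (h : StdU hq ρ A B V) {x : G} (hx : x ∈ B) : ∃ s, ρ (loU hq s) = x := by
  rw [← h.rB] at hx; exact hx

theorem exists_smul (h : StdU hq ρ A B V) {g g' : SU 3 F q} (e : ρ g = ρ g') :
    ∃ c : F, mat g = c • mat g' := by
  obtain ⟨c, hc⟩ := (hq.mem_center_SU_iff (by omega)).1 (h.ker (g * g'⁻¹) (by simp [e]))
  have hc' : mat (g * g'⁻¹) = c • 1 := hc
  refine ⟨c, ?_⟩
  rw [← inv_mul_cancel_right g g', mat_mul, hc', smul_mul_assoc, one_mul]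

theorem comp (h : StdU hq ρ A B V) (θ : SU 3 F q ≃* SU 3 F q) (α β : SU 2 F q ≃* SU 2 F q)
    (h1 : ∀ s, θ (upU hq s) = upU hq (α s)) (h2 : ∀ s, θ (loU hq s) = loU hq (β s)) :
    StdU hq (ρ.comp θ.toMonoidHom) A B V where
  ker g hg := (mulEquiv_mem_center_iff θ g).1 (h.ker _ hg)
  rA := by
    rw [← h.rA]
    ext x
    exact ⟨fun ⟨s, hs⟩ => ⟨α s, by rw [← hs]; simp [h1]⟩,
      fun ⟨s, hs⟩ => ⟨α.symm s, by rw [← hs]; simp [h1]⟩⟩
  rB := by
    rw [← h.rB]
    ext x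
    exact ⟨fun ⟨s, hs⟩ => ⟨β s, by rw [← hs]; simp [h2]⟩,
      fun ⟨s, hs⟩ => ⟨β.symm s, by rw [← hs]; simp [h2]⟩⟩
  rV := by
    rw [MonoidHom.range_comp, MonoidHom.range_eq_top.2 θ.surjective, ← MonoidHom.range_eq_map,
      h.rV]

/-- The elements of `B` normalising `A` are diagonal. -/
theorem diag_of_lo (h : StdU hq ρ A B V) {s : SU 2 F q}
    (hs : ρ (loU hq s) ∈ Subgroup.normalizer (A : Set G)) : mat s 0 1 = 0 := by
  obtain ⟨y, hy⟩ := h.exists_up ((hs _).1 (h.up_mem (w2 hq)))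
  obtain ⟨c, hc⟩ := h.exists_smul (g := loU hq s * upU hq (w2 hq)) (g' := upU hq y * loU hq s)
    (by rw [map_mul, map_mul, hy]; group)
  have := congrFun (congrFun hc 2) 0
  simpa [mat_mul, mat_upU, mat_loU, mat_w2, mul_apply, Fin.sum_univ_three,
    (su2_entries hq s).1] using this

/-- The elements of `A` normalising `B` are diagonal. -/
theorem diag_of_up (h : StdU hq ρ A B V) {s : SU 2 F q}
    (hs : ρ (upU hq s) ∈ Subgroup.normalizer (B : Set G)) : mat s 0 1 = 0 := by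
  obtain ⟨y, hy⟩ := h.exists_lo ((hs _).1 (h.lo_mem (w2 hq)))
  obtain ⟨c, hc⟩ := h.exists_smul (g := upU hq s * loU hq (w2 hq)) (g' := loU hq y * upU hq s)
    (by rw [map_mul, map_mul, hy]; group)
  have := congrFun (congrFun hc 0) 2
  simpa [mat_mul, mat_upU, mat_loU, mat_w2, mul_apply, Fin.sum_univ_three] using this

end StdU

theorem norm_vec {a : F} (h : a * σ a = 1) (i : Fin 2) : ![1, a] i * σ (![1, a] i) = 1 := by
  fin_cases i <;> simp [h]

theorem norm_vec' {a : F} (h : a * σ a = 1) (i : Fin 2) : ![a, 1] i * σ (![a, 1] i) = 1 := by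
  fin_cases i <;> simp [h]

theorem eq_dg2 (hq : UField σ q) {s : SU 2 F q} (h : mat s 0 1 = 0) :
    ∃ (a : F) (ha : a * σ a = 1), s = dg2 hq a ha := by
  obtain ⟨e1, e2⟩ := su2_entries hq s
  have hd : (mat s).det = 1 := s.1.2
  rw [det_fin_two, h, e2, zero_mul, sub_zero] at hd
  refine ⟨_, hd, su_ext ?_⟩
  rw [mat_dg2]
  ext i j; fin_cases i <;> fin_cases j <;> simp [e1, e2, h]

theorem lo_dg2_mul_up (hq : UField σ q) {a : F} (h : a * σ a = 1) (s : SU 2 F q) :
    loU hq (dg2 hq a h) * upU hq s = upU hq (dgU hq ![1, a] (norm_vec h) s) * loU hq (dg2 hq a h) :=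
  su_ext (by
    ext i j
    fin_cases i <;> fin_cases j <;>
      simp [mat_mul, mat_upU, mat_loU, mat_dg2, mat_dgU, mul_apply, Fin.sum_univ_three] <;>
      first | linear_combination (-mat s 0 1) * h | linear_combination (-a * mat s 1 1) * h)

theorem up_dg2_mul_lo (hq : UField σ q) {a : F} (h : a * σ a = 1) (s : SU 2 F q) :
    upU hq (dg2 hq a h) * loU hq s = loU hq (dgU hq ![1, a] (norm_vec h) s) * upU hq (dg2 hq a h) :=
  su_ext (by
    ext i j
    fin_cases i <;> fin_cases j <;>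
      simp [mat_mul, mat_upU, mat_loU, mat_dg2, mat_dgU, mul_apply, Fin.sum_univ_three] <;>
      first | ring1 | linear_combination (-mat s 1 0) * h | linear_combination (-mat s 1 1) * h)

theorem StdU.lo_dg2_mem {hq : UField σ q} {ρ : SU 3 F q →* G} {A B V : Subgroup G}
    (h : StdU hq ρ A B V) {a : F} (ha : a * σ a = 1) :
    ρ (loU hq (dg2 hq a ha)) ∈ Subgroup.normalizer (A : Set G) := by
  intro x
  constructor
  · intro hx
    obtain ⟨s, rfl⟩ := h.exists_up hx
    rw [← map_mul, lo_dg2_mul_up, map_mul, mul_inv_cancel_right]; exact h.up_mem _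
  · intro hx
    obtain ⟨s, hs⟩ := h.exists_up hx
    obtain ⟨s, rfl⟩ := (dgU hq ![1, a] (norm_vec ha)).surjective s
    rw [eq_mul_inv_iff_mul_eq, ← map_mul, ← lo_dg2_mul_up, map_mul, mul_right_inj] at hs
    rw [← hs]; exact h.up_mem _

theorem StdU.up_dg2_mem {hq : UField σ q} {ρ : SU 3 F q →* G} {A B V : Subgroup G}
    (h : StdU hq ρ A B V) {a : F} (ha : a * σ a = 1) :
    ρ (upU hq (dg2 hq a ha)) ∈ Subgroup.normalizer (B : Set G) := by
  intro x
  constructor
  · intro hx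
    obtain ⟨s, rfl⟩ := h.exists_lo hx
    rw [← map_mul, up_dg2_mul_lo, map_mul, mul_inv_cancel_right]; exact h.lo_mem _
  · intro hx
    obtain ⟨s, hs⟩ := h.exists_lo hx
    obtain ⟨s, rfl⟩ := (dgU hq ![1, a] (norm_vec ha)).surjective s
    rw [eq_mul_inv_iff_mul_eq, ← map_mul, ← up_dg2_mul_lo, map_mul, mul_right_inj] at hs
    rw [← hs]; exact h.lo_mem _

/-! ### Monomial matrices -/

/-- A monomial `2 × 2` matrix. -/
def Mono (h : Matrix (Fin 2) (Fin 2) F) : Prop := (h 0 1 = 0 ∧ h 1 0 = 0) ∨ (h 0 0 = 0 ∧ h 1 1 = 0)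

theorem mono_of_mul {M : Matrix (Fin 2) (Fin 2) F} (hM : M.det ≠ 0) {a b c d : F} (hab : a ≠ b)
    (h : M * !![a, 0; 0, b] = !![c, 0; 0, d] * M) : Mono M := by
  have e := fun i j => congrFun (congrFun h i) j
  have e00 := e 0 0
  have e01 := e 0 1
  have e10 := e 1 0
  have e11 := e 1 1
  simp [mul_apply, Fin.sum_univ_two] at e00 e01 e10 e11
  have h1 : M 0 0 * M 0 1 = 0 := (mul_eq_zero.1 (show (a - b) * _ = 0 by
    linear_combination M 0 1 * e00 - M 0 0 * e01)).resolve_left (sub_ne_zero.2 hab)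
  have h2 : M 1 0 * M 1 1 = 0 := (mul_eq_zero.1 (show (a - b) * _ = 0 by
    linear_combination M 1 1 * e10 - M 1 0 * e11)).resolve_left (sub_ne_zero.2 hab)
  rw [det_fin_two] at hM
  rcases mul_eq_zero.1 h1 with h1 | h1 <;> rcases mul_eq_zero.1 h2 with h2 | h2
  · simp [h1, h2] at hM
  · exact Or.inr ⟨h1, h2⟩
  · exact Or.inl ⟨h1, h2⟩
  · simp [h1, h2] at hM

theorem mono_of_mul' {M : Matrix (Fin 2) (Fin 2) F} (hM : M.det ≠ 0) {a b c d : F} (hab : a ≠ b)
    (h : !![a, 0; 0, b] * M = M * !![c, 0; 0, d]) : Mono M := by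
  have := mono_of_mul (M := Mᵀ) (by rwa [det_transpose]) hab (c := c) (d := d) (by
    have := congrArg transpose h
    rw [transpose_mul, transpose_mul] at this
    convert this using 2 <;> (ext i j; fin_cases i <;> fin_cases j <;> rfl))
  exact this.imp (fun h => ⟨h.2, h.1⟩) id

theorem map_dg2 (hq : UField σ q) (τ : F ≃+* F) {a : F} (ha : a * σ a = 1) :
    (mat (dg2 hq a ha)).map τ = !![τ a, 0; 0, τ (σ a)] := by
  rw [mat_dg2]; ext i j; fin_cases i <;> fin_cases j <;> simp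

/-- An automorphism mapping the diagonal torus into itself is diagonal times field. -/
theorem exists_diag_of_torus (hq : UField σ q) (α : SU 2 F q ≃* SU 2 F q)
    (h : ∀ a ha, mat (α (dg2 hq a ha)) 0 1 = 0) :
    ∃ (u : F) (hu : u * σ u = 1) (τ : F ≃+* F),
      ∀ s, α s = dgU hq ![u, 1] (norm_vec' hu) (suMapEquiv 2 q τ s) := by
  obtain ⟨g, τ, hg, hα⟩ := exists_aut_su2 hq α
  obtain ⟨μ, hμ, hμ'⟩ := hq.invol.exists_norm_one_ne
  obtain ⟨a, ha, e⟩ := eq_dg2 hq (h μ hμ)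
  have e1 := hα (dg2 hq μ hμ)
  rw [e, mat_dg2, map_dg2] at e1
  obtain ⟨u, hu, τ', h'⟩ := exists_diag_of_monomial hq hg hα
    (mono_of_mul hg (τ.injective.ne hμ'.symm) e1.symm)
  exact ⟨u, by simpa using hu 0, τ', h'⟩

/-- If a torus `α(T)` is normalised by the diagonal automorphisms, it is the diagonal torus. -/
theorem torus_of_norm (hq : UField σ q) (α : SU 2 F q ≃* SU 2 F q)
    (h : ∀ a ha b hb, mat (α.symm (dgU hq ![1, a] (norm_vec ha) (α (dg2 hq b hb)))) 0 1 = 0) :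
    ∀ a ha, mat (α (dg2 hq a ha)) 0 1 = 0 := by
  obtain ⟨g, τ, hg, hα⟩ := exists_aut_su2 hq α
  obtain ⟨μ, hμ, hμ'⟩ := hq.invol.exists_norm_one_ne
  obtain ⟨a, ha, e⟩ := eq_dg2 hq (h μ hμ μ hμ)
  have e1 := hα (dg2 hq μ hμ)
  have e2 := hα (dg2 hq a ha)
  rw [← e, MulEquiv.apply_symm_apply, e, map_dg2] at e2
  rw [map_dg2] at e1
  have hu := isUnit_iff_ne_zero.2 hg
  set x := α (dg2 hq μ hμ)
  have e3 : !![1, 0; 0, μ] * mat x = mat (dgU hq ![1, μ] (norm_vec hμ) x) * !![1, 0; 0, μ] := by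
    ext i j
    fin_cases i <;> fin_cases j <;> simp [mat_dgU, mul_apply, Fin.sum_univ_two] <;>
      first | linear_combination (-mat x 0 1) * hμ | linear_combination (-μ * mat x 1 1) * hμ
  have hμ0 : μ ≠ 0 := left_ne_zero_of_mul_eq_one hμ
  obtain ⟨M, hM⟩ : ∃ M, M = g⁻¹ * !![1, 0; 0, μ] * g := ⟨_, rfl⟩
  have e4 : !![1, 0; 0, μ] * g = g * M := by
    rw [hM, ← mul_assoc, mul_nonsing_inv_cancel_left _ _ hu]
  have hM0 : M.det ≠ 0 := fun h0 => by
    have := congrArg det e4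
    rw [det_mul, det_mul, h0, mul_zero] at this
    exact mul_ne_zero (by simpa using hμ0) hg this
  have e5 : M * !![τ μ, 0; 0, τ (σ μ)] = !![τ a, 0; 0, τ (σ a)] * M := by
    apply (isUnit_iff_isUnit_det _ |>.2 hu).mul_left_cancel
    rw [← mul_assoc, ← e4, mul_assoc, ← e1, ← mul_assoc, e3, mul_assoc, e4, ← mul_assoc,
      ← mul_assoc, ← e2]
  have hm : Mono g := by
    rcases mono_of_mul hM0 (τ.injective.ne hμ'.symm) e5 with h1 | h1
    · refine mono_of_mul' hg (a := 1) (b := μ) (fun e => hμ' (by rw [← e, map_one]))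
        (c := M 0 0) (d := M 1 1) ?_
      rw [e4]; congr 1
      ext i j; fin_cases i <;> fin_cases j <;> simp [h1.1, h1.2]
    · have : trace M = 1 + μ := by
        rw [hM, trace_mul_comm, ← mul_assoc, mul_nonsing_inv _ hu, one_mul]; simp
      rw [trace_fin_two, h1.1, h1.2] at this
      exact absurd (by rw [show μ = -1 by linear_combination -this]; simp) hμ'
  obtain ⟨u, hu, τ', h'⟩ := exists_diag_of_monomial hq hg hα hm
  intro b hb
  rw [h', mat_dgU, mat_suMapEquiv, map_dg2]; simp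

/-- Two parametrisations of the same subgroup differ by an automorphism. -/
theorem exists_aut_of_range {H : Type*} [Group H] {φ ψ : H →* G} (hφ : Function.Injective φ)
    (hψ : Function.Injective ψ) (h : φ.range = ψ.range) : ∃ α : H ≃* H, ∀ s, φ (α s) = ψ s :=
  ⟨(MonoidHom.ofInjective hψ).trans ((MulEquiv.subgroupCongr h.symm).trans
    (MonoidHom.ofInjective hφ).symm), fun _ => MonoidHom.apply_ofInjective_symm hφ _⟩

theorem dgU_up (hq : UField σ q) {d : Fin 3 → F} (hd : ∀ i, d i * σ (d i) = 1) {u : F}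
    (hu : u * σ u = 1) (e : d 0 = u * d 1) (s : SU 2 F q) :
    dgU hq d hd (upU hq s) = upU hq (dgU hq ![u, 1] (norm_vec' hu) s) := by
  rw [dgU_embU]; congr 1
  apply su_ext; ext i j
  have := hd 1
  fin_cases i <;> fin_cases j <;> simp [mat_dgU, iv, e] <;>
    first | linear_combination (u * mat s 0 0 * σ u) * this | linear_combination (u * mat s 0 1) * this |
      linear_combination (mat s 1 0 * σ u) * this | linear_combination (mat s 1 1) * this

/-- **Extension**: the parametrisation of `B` from the left extends to the pair `(B, C)`. -/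
theorem StdU.exists_extend {hq : UField σ q} {ρ ρ' : SU 3 F q →* G} {A B C V V' : Subgroup G}
    (h' : StdU hq ρ' A B V') (h : StdU hq ρ B C V) (hc : ∀ x ∈ A, ∀ y ∈ C, x * y = y * x) :
    ∃ ρ'', StdU hq ρ'' B C V ∧ ρ''.comp (upU hq) = ρ'.comp (loU hq) := by
  obtain ⟨α, hα⟩ := exists_aut_of_range h.inj_up h'.inj_lo (h.rA.trans h'.rB.symm)
  have hα' : ∀ s, ρ (upU hq (α s)) = ρ' (loU hq s) := hα
  obtain ⟨u, hu, τ, e⟩ := exists_diag_of_torus hq α (torus_of_norm hq α fun a ha b hb => by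
    apply h'.diag_of_lo
    rw [← hα', MulEquiv.apply_symm_apply, eq_mul_inv_of_mul_eq (congrArg ρ
      (lo_dg2_mul_up hq ha _) |>.symm |> (map_mul ρ _ _).symm.trans), map_mul, hα']
    have : ρ (loU hq (dg2 hq a ha)) ∈ Subgroup.normalizer (A : Set G) :=
      Subgroup.centralizer_le_normalizer _ fun x hx => hc x hx _ (h.lo_mem _)
    exact mul_mem (mul_mem this (h'.lo_dg2_mem hb)) (inv_mem this))
  have hd : ∀ i, ![u, 1, 1] i * σ (![u, 1, 1] i) = 1 := fun i => by fin_cases i <;> simp [hu]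
  have k1 : ∀ s, ((suMapEquiv 3 q τ).trans (dgU hq _ hd)) (upU hq s) = upU hq (α s) := fun s => by
    rw [MulEquiv.trans_apply, suMapEquiv_embU, dgU_up hq hd hu (by simp), e]
  refine ⟨_, h.comp ((suMapEquiv 3 q τ).trans (dgU hq _ hd)) α (suMapEquiv 2 q τ) k1 fun s => ?_,
    MonoidHom.ext fun s => ?_⟩
  · rw [MulEquiv.trans_apply, suMapEquiv_embU, dgU_embU, dgU_const]
    intro i j; fin_cases i <;> fin_cases j <;> rfl
  · exact (congrArg ρ (k1 s)).trans (hα' s)

/-- A chain of standard pairs has a coherent parametrisation. -/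
theorem exists_chain (hq : UField σ q) (m : ℕ) (U V : ℕ → Subgroup G)
    (h1 : ∀ i, i + 1 < m → ∀ x ∈ U i, ∀ y ∈ U (i + 2), x * y = y * x)
    (h2 : ∀ i, i < m → IsStandardUnitaryPair (V i) (U i) (U (i + 1)) F q) :
    ∃ ρ : ℕ → SU 3 F q →* G, (∀ i, i < m → StdU hq (ρ i) (U i) (U (i + 1)) (V i)) ∧
      ∀ i, i + 1 < m → (ρ (i + 1)).comp (upU hq) = (ρ i).comp (loU hq) := by
  have step : ∀ i (ρ : SU 3 F q →* G), ∃ ρ' : SU 3 F q →* G, i + 1 < m →
      StdU hq ρ (U i) (U (i + 1)) (V i) → StdU hq ρ' (U (i + 1)) (U (i + 2)) (V (i + 1)) ∧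
        ρ'.comp (upU hq) = ρ.comp (loU hq) := by
    intro i ρ
    by_cases h : i + 1 < m ∧ StdU hq ρ (U i) (U (i + 1)) (V i)
    · obtain ⟨ρ1, h3⟩ := exists_stdU hq (h2 (i + 1) h.1)
      obtain ⟨ρ2, h4⟩ := h.2.exists_extend h3 (h1 i h.1)
      exact ⟨ρ2, fun _ _ => h4⟩
    · exact ⟨1, fun a b => absurd ⟨a, b⟩ h⟩
  choose nx hnx using step
  obtain ⟨ρ0, h0⟩ : ∃ ρ0 : SU 3 F q →* G, 0 < m → StdU hq ρ0 (U 0) (U 1) (V 0) := by
    by_cases h : 0 < m
    · obtain ⟨ρ, h3⟩ := exists_stdU hq (h2 0 h); exact ⟨ρ, fun _ => h3⟩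
    · exact ⟨1, fun a => absurd a h⟩
  let ρ : ℕ → SU 3 F q →* G := fun i => Nat.rec ρ0 nx i
  have hρ : ∀ i, i < m → StdU hq (ρ i) (U i) (U (i + 1)) (V i) := by
    intro i
    induction i with
    | zero => exact h0
    | succ i ih => exact fun hi => (hnx i _ hi (ih (by omega))).1
  exact ⟨ρ, hρ, fun i hi => (hnx i _ hi (hρ i (by omega))).2⟩

end Cfsg.Agent.Phan
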