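import Mathlib
import Cfsg.Agent.Phan.StdU
import Cfsg.Agent.Cl.ClassDiag

/-!
# Unitary diagonalisation; embeddings of `SU₂` in `SU₃`
-/

namespace Cfsg.Agent.Phan

open Matrix Module Cfsg.Agent.Cl

variable {F : Type*} [Field F] {σ : F →+* F} {q n : ℕ}

section Eigen

variable {V : Type*} [AddCommGroup V] [Module F V] {B : V →ₗ[F] V →ₛₗ[σ] F}

theorem exists_orthonormal_eigen [Finite F] [FiniteDimensional F V] (hB : IsHerm B) {κ ι : Type*}
    [Fintype ι] (f : κ → V →ₗ[F] V) (hf : ∀ i u v, B (f i u) (f i v) = B u v) (b : Basis ι F V)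
    (χ : ι → κ → F) (hb : ∀ k i, f i (b k) = χ k i • b k) (hχ : ∀ k i, χ k i * σ (χ k i) = 1)
    (k : ℕ) (hk : k ≤ finrank F V) : ∃ p : Fin k → V,
      (∀ i j, B (p i) (p j) = if i = j then 1 else 0) ∧ ∀ j, ∃ l, ∀ i, f i (p j) = χ l i • p j := by
  have orth : ∀ l m u v, (∀ i, f i u = χ l i • u) → (∀ i, f i v = χ m i • v) → B u v ≠ 0 →
      χ l = χ m := fun l m u v hu hv h => funext fun i => by
    have e := hf i u v
    rw [hu, hv] at e
    simp only [map_smul, LinearMap.smul_apply, LinearMap.map_smulₛₗ, smul_eq_mul] at e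
    have e' : σ (χ m i) * χ l i = 1 := mul_right_cancel₀ h (by linear_combination e)
    linear_combination (χ m i) * e' - χ l i * hχ m i
  induction k with
  | zero => exact ⟨Fin.elim0, by simp, by simp⟩
  | succ k ih =>
    obtain ⟨p, hp, he⟩ := ih (by omega)
    choose c hc using he
    let pj : V → V := fun y => y - ∑ i, B y (p i) • p i
    have h1 : ∀ y j, B (pj y) (p j) = 0 := fun y j => by simp [pj, map_sum, hp]
    have h2 : ∀ x y, (∀ j, B x (p j) = 0) → B x (pj y) = B x y := fun x y hx => by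
      simp [pj, map_sum, hx]
    have h3 : ∀ l i, f i (pj (b l)) = χ l i • pj (b l) := fun l i => by
      simp only [pj, map_sub, map_sum, map_smul, hb, smul_sub, Finset.smul_sum]
      congr 1
      refine Finset.sum_congr rfl fun j _ => ?_
      by_cases h : B (b l) (p j) = 0
      · simp [h]
      · rw [hc, ← orth l (c j) _ _ (hb l) (hc j) h, smul_comm]
    have ex : ∀ x : V, x ≠ 0 → ∃ l, B x (b l) ≠ 0 := fun x hx => by
      by_contra! h
      exact hx (hB.nondeg x fun y => by rw [← b.sum_repr y, map_sum]; simp [h])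
    obtain ⟨x, hx0, hx⟩ := exists_ne_zero_perp (B := B) (k := k) (by omega) p
    obtain ⟨l, hl⟩ := ex x hx0
    rw [← h2 x _ hx] at hl
    obtain ⟨m, hm⟩ := ex (pj (b l)) (by rintro e; simp [e] at hl)
    rw [← h2 _ _ (h1 _)] at hm
    have e := orth l m _ _ (h3 l) (h3 m) hm
    obtain ⟨α, β, h4⟩ := hB.exists_nonisotropic hm
    obtain ⟨a, -, h5⟩ := hB.exists_smul_norm_one h4
    have h6 : ∀ j, B (a • (α • pj (b l) + β • pj (b m))) (p j) = 0 := fun j => by simp [h1]
    refine ⟨Fin.cons (a • (α • pj (b l) + β • pj (b m))) p, fun i j => ?_, fun j => ?_⟩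
    · induction i using Fin.cases <;> induction j using Fin.cases
      · simpa using h5
      · simpa [(Fin.succ_ne_zero _).symm] using h6 _
      · simpa using hB.eq_zero_symm (h6 _)
      · simpa using hp _ _
    · induction j using Fin.cases with
      | zero => exact ⟨l, fun i => by
          simp only [Fin.cons_zero, map_smul, map_add, h3, ← e, smul_add, smul_comm (χ l i)]⟩
      | succ j => exact ⟨c j, hc j⟩

end Eigen

theorem exists_primitiveRoot (hq : UField σ q) : ∃ ζ : F, IsPrimitiveRoot ζ (q + 1) := by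
  have := hq.finite
  obtain ⟨g, hg⟩ := IsCyclic.exists_ofOrder_eq_natCard (α := uNormOne σ)
  refine ⟨g.1, ?_⟩
  rw [← hq.card_uNormOne, ← hg, ← Subgroup.orderOf_coe, ← orderOf_units]
  exact IsPrimitiveRoot.orderOf _

/-- **Unitary diagonalisation** of commuting elements of exponent `q + 1`. -/
theorem exists_unitary_diag (hq : UField σ q) {κ : Type*} (A : κ → SU n F q)
    (hc : ∀ i j, Commute (A i) (A j)) (h : ∀ i, A i ^ (q + 1) = 1) :
    ∃ (U : Matrix (Fin n) (Fin n) F) (hU : Uᵀ * U.map σ = 1),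
      ∀ i, ∃ d, mat (cjU hq U hU (A i)) = diagonal d := by
  have := hq.finite
  obtain ⟨ζ, hζ⟩ := exists_primitiveRoot hq
  let f : κ → End F (Fin n → F) := fun i => (piU F q n (A i) : (Fin n → F) →ₗ[F] (Fin n → F))
  let Φ : SU n F q →* End F (Fin n → F) :=
    (LinearEquiv.automorphismGroup.toLinearMapMonoidHom).comp (piU F q n)
  have hp : ∀ i, f i ^ (q + 1) = 1 := fun i => by
    change Φ (A i) ^ (q + 1) = 1
    rw [← map_pow, h, map_one]
  obtain ⟨b, hb⟩ := Cls.exists_basis_eigenvectors (ι := Fin n) (by simp) f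
    (fun i j => (hc i j).map Φ) fun i => Cls.exists_aeval_prod_eq_zero_of_pow q.succ_pos hζ (hp i)
  choose χ hχ using fun k i => hb i k
  obtain ⟨p, hp1, hp2⟩ := exists_orthonormal_eigen (hq.isHerm_uStd (Fin n)) f
    (fun i => USG_map (piU_mem hq (A i))) b χ hχ (fun k i => by
      have e : ∀ m : ℕ, (f i ^ m) (b k) = χ k i ^ m • b k := fun m => by
        induction m with
        | zero => simp
        | succ m ih => rw [pow_succ, End.mul_apply, hχ, map_smul, ih, smul_smul, pow_succ']
      have e1 := e (q + 1)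
      rw [hp] at e1
      rw [hq.pow, ← pow_succ']
      exact smul_left_injective F (b.ne_zero k) (e1.symm.trans (one_smul _ _).symm)) n (by simp)
  choose l hl using hp2
  let P : Matrix (Fin n) (Fin n) F := of fun i j => p j i
  have hP : Pᵀ * P.map σ = 1 := by
    ext i j; exact (hp1 i j).trans (one_apply).symm
  refine ⟨(P.map σ)ᵀ, unitary_star hq hP, fun i => ⟨fun j => χ (l j) i, ?_⟩⟩
  rw [mat_cjU, transpose_map, map_map_σ hq, transpose_transpose, mul_assoc,
    show mat (A i) * P = P * diagonal fun j => χ (l j) i by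
      ext a j
      rw [mul_diagonal, mul_comm]
      exact congrFun (hl j i) a, ← mul_assoc, star_mul_of_unitary hP, one_mul]

/-- Permuting the coordinates. -/
def rxH (hq : UField σ q) (π : Equiv.Perm (Fin n)) : SU n F q →* SU n F q where
  toFun g := mkU hq ((mat g).submatrix π π) (by rw [det_submatrix_equiv_self]; exact g.1.2) (by
    rw [transpose_submatrix, ← submatrix_map, submatrix_mul_equiv, mat_unitary hq, submatrix_one_equiv])
  map_one' := su_ext (submatrix_one_equiv π)
  map_mul' g h := su_ext (submatrix_mul_equiv (mat g) (mat h) π π π).symm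

/-- Permuting the coordinates, as an automorphism. -/
def rxU (hq : UField σ q) (π : Equiv.Perm (Fin n)) : SU n F q ≃* SU n F q :=
  { rxH hq π with
    invFun := rxH hq π.symm
    left_inv := fun g => su_ext (by ext i j; simp [rxH, mat_mkU])
    right_inv := fun g => su_ext (by ext i j; simp [rxH, mat_mkU]) }

theorem mat_rxU (hq : UField σ q) (π : Equiv.Perm (Fin n)) (g : SU n F q) (i j : Fin n) :
    mat (rxU hq π g) i j = mat g (π i) (π j) := rfl

/-- An element fixing all unit vectors outside a block lies in the block. -/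
theorem mem_range_of_fix (hq : UField σ q) {k : ℕ} (j : Fin k ↪ Fin n) {g : SU n F q}
    (h : ∀ x, (∀ a, x ≠ j a) → mat g *ᵥ ev x = ev x) : g ∈ (embU hq j).range :=
  (mem_range_embU hq j).2 ⟨piU_mem hq g, fun x hx => h x fun a e => hx (by simp [e])⟩

theorem mat_pow (g : SU n F q) (m : ℕ) : mat (g ^ m) = mat g ^ m := rfl

theorem su_det (g : SU n F q) : (mat g).det = 1 := g.1.2

/-- Induction over generators of `SU₂` of order `p`, in two commuting families. -/
theorem exists_su2_gens (hq : UField σ q) (p : ℕ) [CharP F p] :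
    ∃ S : Bool → Set (SU 2 F q), (∀ b, ∀ x ∈ S b, x ^ p = 1 ∧ ∀ y ∈ S b, Commute x y) ∧
      ∀ H : Subgroup (SU 2 F q), (∀ b, S b ⊆ H) → H = ⊤ := by
  obtain ⟨-, ψ, -, -⟩ := exists_sl2_model hq
  have h01 : (0 : Fin 2) ≠ 1 := by decide
  refine ⟨fun b => bif b then Set.range fun c => ψ (SpecialLinearGroup.transvection h01 c) else
    Set.range fun c => ψ (SpecialLinearGroup.transvection h01.symm c), ?_, fun H hH => ?_⟩
  · have key : ∀ (i j : Fin 2) (h : i ≠ j),
        ∀ x ∈ Set.range fun c => ψ (SpecialLinearGroup.transvection h c), x ^ p = 1 ∧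
          ∀ y ∈ Set.range fun c => ψ (SpecialLinearGroup.transvection h c), Commute x y := by
      rintro i j h _ ⟨c, rfl⟩
      refine ⟨by rw [← map_pow, transvection_pow_char, map_one], ?_⟩
      rintro _ ⟨d, rfl⟩
      refine Commute.map (sl_ext ?_) ψ
      change transvection i j c * transvection i j d = transvection i j d * transvection i j c
      rw [transvection_mul_transvection_same _ _ h, transvection_mul_transvection_same _ _ h,
        add_comm]
    rintro (_ | _)
    · exact key _ _ _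
    · exact key _ _ _
  · have := sl_eq_top_of_transvection_mem (H.comap ψ.toMonoidHom) fun i j hij c => by
      fin_cases i <;> fin_cases j
      · exact absurd rfl hij
      · exact hH true ⟨c, rfl⟩
      · exact hH false ⟨c, rfl⟩
      · exact absurd rfl hij
    rw [eq_top_iff]
    intro x _
    obtain ⟨y, rfl⟩ := ψ.surjective x
    exact this.ge (Subgroup.mem_top y)

theorem not_commute_w2 (hq : UField σ q) : ∃ x y : SU 2 F q, ¬ Commute x y := by
  obtain ⟨μ, hμ, hμ'⟩ := hq.invol.exists_norm_one_ne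
  refine ⟨dg2 hq μ hμ, w2 hq, fun h => hμ' ?_⟩
  have := congrFun (congrFun (congrArg mat h.eq) 0) 1
  simpa [mat_mul, mat_dg2, mat_w2, mul_apply, Fin.sum_univ_two] using this.symm

/-- The stabiliser of a vector. -/
def fixV (w : Fin n → F) : Subgroup (SU n F q) where
  carrier := {g | mat g *ᵥ w = w}
  one_mem' := one_mulVec w
  mul_mem' {g h} hg hh := by
    change (mat g * mat h) *ᵥ w = w
    rw [← mulVec_mulVec, hh, hg]
  inv_mem' {g} hg := by
    change mat g⁻¹ *ᵥ w = w
    conv_lhs => rw [← show mat g *ᵥ w = w from hg, mulVec_mulVec, ← mat_mul, inv_mul_cancel,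
      mat_one, one_mulVec]

theorem exists_fix_odd (hq : UField σ q) (h2 : (2 : F) ≠ 0) (φ : SU 2 F q →* SU 3 F q)
    (hφ : Function.Injective φ) : ∃ w, w ≠ 0 ∧ ∀ s, φ s ∈ fixV w := by
  have := hq.finite
  obtain ⟨p, hp⟩ := CharP.exists F
  have : Fact p.Prime := ⟨CharP.char_is_prime F p⟩
  let m : SU 2 F q := dg2 hq (-1) (by simp)
  have hm : mat m = -1 := by
    rw [mat_dg2]; ext i j; fin_cases i <;> fin_cases j <;> simp
  have hm2 : m ^ 2 = 1 := su_ext (by rw [mat_pow, hm, mat_one]; simp)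
  have hm1 : m ≠ 1 := fun e => h2 (by
    have := congrFun (congrFun (congrArg mat e) 0) 0
    rw [hm, mat_one] at this
    have : (-1 : F) = 1 := by simpa using this
    linear_combination -this)
  have hq2 : 2 ∣ q + 1 := by
    rw [← hq.card_uNormOne]
    have e : orderOf (⟨-1, by simp [mem_uNormOne]⟩ : uNormOne σ) = 2 :=
      orderOf_eq_prime (Subtype.ext (by simp)) fun e => h2 (by
        have : (-1 : F) = 1 := congrArg (fun x : uNormOne σ => (x.1 : F)) e
        linear_combination -this)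
    exact e ▸ orderOf_dvd_natCard _
  obtain ⟨U, hU, hd⟩ := exists_unitary_diag hq (fun _ : Unit => φ m) (fun _ _ => Commute.refl _)
    (fun _ => by obtain ⟨c, hc⟩ := hq2; rw [hc, pow_mul, ← map_pow, hm2, map_one, one_pow])
  obtain ⟨d, hd⟩ := hd ()
  obtain ⟨k, hk⟩ := exists_sign_index (d := d)
    (by rw [← hd, ← mat_pow, ← map_pow, ← map_pow, hm2, map_one, map_one, mat_one])
    (by rw [← hd, su_det])
    (fun e => hm1 (hφ ((cjU hq U hU).injective (su_ext (by rw [hd, e, map_one, map_one, mat_one])))))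
  obtain ⟨S, hS, hgen⟩ := exists_su2_gens hq p
  have key := hgen ((fixV (ev k)).comap ((cjU hq U hU).toMonoidHom.comp φ)) fun b x hx => by
    set y := cjU hq U hU (φ x)
    have hc : mat y * diagonal d = diagonal d * mat y := by
      rw [← hd, ← mat_mul, ← mat_mul, ← map_mul, ← map_mul, ← map_mul, ← map_mul]
      congr 3
      exact su_ext (by rw [mat_mul, mat_mul, hm]; simp)
    have z : ∀ {x : F}, -x = x → x = 0 := fun {x} h =>
      (mul_eq_zero.1 (show 2 * x = 0 by linear_combination -h)).resolve_left h2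
    have a1 : ∀ j, j ≠ k → mat y k j = 0 := fun j hj => z (by
      simpa [hk, hj] using congrFun (congrFun hc k) j)
    have a2 : ∀ j, j ≠ k → mat y j k = 0 := fun j hj => z (by
      simpa [hk, hj] using (congrFun (congrFun hc j) k).symm)
    have a3 : mat y k k = 1 := eq_one_of_pow_char p (by
      rw [← diag_pow_entry a1, ← mat_pow, ← map_pow, ← map_pow, (hS b x hx).1, map_one, map_one,
        mat_one, one_apply_eq])
    change mat y *ᵥ ev k = ev k
    ext j
    by_cases e : j = k
    · simp [ev, e, a3]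
    · simp [ev, e, a2 j e]
  have hU' := mul_eq_one_comm.1 (star_mul_of_unitary hU)
  refine ⟨(U.map σ)ᵀ *ᵥ ev k, fun e => ?_, fun s => ?_⟩
  · have := congrArg (U *ᵥ ·) e
    simp only [mulVec_mulVec, hU', one_mulVec, mulVec_zero] at this
    simpa [ev_self] using congrFun this k
  · have h1 : mat (cjU hq U hU (φ s)) *ᵥ ev k = ev k := key.ge (Subgroup.mem_top s)
    change mat (φ s) *ᵥ _ = _
    conv_rhs => rw [← h1, mulVec_mulVec, mat_cjU, ← mul_assoc, ← mul_assoc, star_mul_of_unitary hU,
      one_mul, ← mulVec_mulVec]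

theorem parallel_of_isotropic (hq : UField σ q) {u v : Fin 3 → F} (hu : u ≠ 0)
    (h1 : uStd σ _ u u = 0) (h2 : uStd σ _ v v = 0) (h3 : uStd σ _ u v = 0) : ∃ a : F, v = a • u := by
  have hB := hq.isHerm_uStd (Fin 3)
  by_contra h
  have li : LinearIndependent F ![u, v] := by
    rw [LinearIndependent.pair_iff' hu]
    exact fun a e => h ⟨a, e.symm⟩
  have e1 : finrank F (Submodule.span F {u, v}) = 2 := by
    have := finrank_span_eq_card li
    rwa [Matrix.range_cons, Matrix.range_cons, Matrix.range_empty, Set.union_empty,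
      Set.singleton_union, Fintype.card_fin] at this
  have e2 := hB.finrank_add_finrank_uPerp (Submodule.span F {u, v})
  have e3 : Submodule.span F {u, v} ≤ uPerp (uStd σ _) (Submodule.span F {u, v}) := by
    rw [Submodule.span_le]
    rintro x (rfl | rfl)
    · exact mem_uPerp_span_pair.2 ⟨h1, hB.eq_zero_symm h3⟩
    · exact mem_uPerp_span_pair.2 ⟨h3, h2⟩
  have := Submodule.finrank_mono e3
  simp at e2
  omega

theorem exists_fix_even (hq : UField σ q) [CharP F 2] (φ : SU 2 F q →* SU 3 F q) :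
    ∃ w, w ≠ 0 ∧ ∀ s, φ s ∈ fixV w := by
  have := hq.finite
  have hB := hq.isHerm_uStd (Fin 3)
  obtain ⟨S, hS, hgen⟩ := exists_su2_gens hq 2
  let N : SU 2 F q → (Fin 3 → F) → (Fin 3 → F) := fun s x => piU F q 3 (φ s) x - x
  have t2 : ∀ s, s ^ 2 = 1 → ∀ x, piU F q 3 (φ s) (piU F q 3 (φ s) x) = x := fun s hs x => by
    rw [← LinearEquiv.mul_apply, ← map_mul, ← map_mul, ← pow_two, hs, map_one, map_one]; rfl
  have adj : ∀ s, s ^ 2 = 1 → ∀ x y, uStd σ _ (N s x) y = uStd σ _ x (N s y) := fun s hs x y => by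
    simp only [N, map_sub, LinearMap.sub_apply]
    rw [← USG_map (piU_mem hq (φ s)) _ y, t2 s hs]
  have NN : ∀ s, s ^ 2 = 1 → ∀ x, N s (N s x) = 0 := fun s hs x => by
    simp only [N, map_sub, t2 s hs]
    ext i
    simp only [Pi.sub_apply, Pi.zero_apply]
    linear_combination (x i - piU F q 3 (φ s) x i) * CharTwo.two_eq_zero (R := F)
  have Ns : ∀ s (a : F) x, N s (a • x) = a • N s x := fun s a x => by simp [N, smul_sub]
  have iso : ∀ s, s ^ 2 = 1 → ∀ x y, uStd σ _ (N s x) (N s y) = 0 := fun s hs x y => by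
    rw [adj s hs, NN s hs, map_zero]
  have ex : ∀ b, ∃ u : Fin 3 → F, ∀ s ∈ S b, ∀ x, ∃ a : F, N s x = a • u := by
    intro b
    by_cases h : ∀ s ∈ S b, ∀ x, N s x = 0
    · exact ⟨0, fun s hs x => ⟨0, by simp [h s hs x]⟩⟩
    push Not at h
    obtain ⟨s, hs, x, hx⟩ := h
    refine ⟨N s x, fun t ht y => ?_⟩
    have s2 := (hS b s hs).1
    have t2' := (hS b t ht).1
    refine parallel_of_isotropic hq hx (iso s s2 _ _) (iso t t2' _ _) ?_
    have c : N t (N s x) = N s (N t x) := by
      simp only [N, map_sub]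
      rw [← LinearEquiv.mul_apply, ← LinearEquiv.mul_apply, ← map_mul, ← map_mul, ← map_mul,
        ← map_mul, ((hS b s hs).2 t ht).eq]
      abel
    obtain ⟨a, ha⟩ := parallel_of_isotropic hq hx (iso s s2 _ _) (iso s s2 (N t x) _) (iso s s2 _ _)
    rw [← c] at ha
    have h0 := NN t t2' (N s x)
    rw [ha, Ns, ha, smul_smul, smul_eq_zero, mul_self_eq_zero] at h0
    rw [← adj t t2', ha, h0.resolve_right hx]; simp
  choose u hu using ex
  obtain ⟨w, hw0, hw⟩ := exists_ne_zero_perp (B := uStd σ (Fin 3)) (k := 2) (by simp)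
    ![u true, u false]
  have key := hgen ((fixV w).comap φ) fun b s hs => by
    have : N s w = 0 := hB.nondeg _ fun y => by
      obtain ⟨a, ha⟩ := hu b s hs y
      rw [adj s (hS b s hs).1, ha]
      cases b
      · simpa using Or.inr (hw 1)
      · simpa using Or.inr (hw 0)
    exact sub_eq_zero.1 this
  exact ⟨w, hw0, fun s => key.ge (Subgroup.mem_top s)⟩

/-- An `SU₂` in `SU₃` fixes a vector. -/
theorem exists_fix (hq : UField σ q) (φ : SU 2 F q →* SU 3 F q) (hφ : Function.Injective φ) :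
    ∃ w, w ≠ 0 ∧ ∀ s, φ s ∈ fixV w := by
  by_cases h2 : (2 : F) = 0
  · have : CharP F 2 := CharTwo.of_one_ne_zero_of_two_eq_zero one_ne_zero h2
    exact exists_fix_even hq φ
  · exact exists_fix_odd hq h2 φ hφ

/-- If moreover it contains a non-trivial diagonal matrix, it fixes a unit vector. -/
theorem exists_fix_ev (hq : UField σ q) (φ : SU 2 F q →* SU 3 F q) (hφ : Function.Injective φ)
    {s : SU 2 F q} (hs : s ≠ 1) {d : Fin 3 → F} (hd : mat (φ s) = diagonal d) :
    ∃ k, ∀ s, φ s ∈ fixV (ev k) := by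
  obtain ⟨w, hw0, hw⟩ := exists_fix hq φ hφ
  obtain ⟨k, hk⟩ := Function.ne_iff.1 hw0
  have h1 : ∀ i, w i ≠ 0 → d i = 1 := fun i hi => by
    have := congrFun (show mat (φ s) *ᵥ w = w from hw s) i
    rw [hd, mulVec_diagonal] at this
    exact mul_right_cancel₀ hi (this.trans (one_mul _).symm)
  have h2 : ∀ i, i ≠ k → w i = 0 := fun i hi => by
    by_contra h
    have e1 := h1 i h
    have e2 := h1 k hk
    have e3 := su_det (φ s)
    rw [hd, det_diagonal, Fin.prod_univ_three] at e3
    refine hs (hφ (su_ext ?_))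
    rw [hd, map_one, mat_one, ← diagonal_one]
    congr 1
    ext j
    fin_cases i <;> fin_cases k <;> fin_cases j <;> simp_all
  have h3 : w = w k • ev k := by
    ext i
    by_cases e : i = k
    · simp [e, ev_self]
    · simp [ev_ne e, h2 i e]
  refine ⟨k, fun t => ?_⟩
  have := show mat (φ t) *ᵥ w = w from hw t
  rw [h3, mulVec_smul] at this
  exact smul_right_injective _ hk this

theorem range_eq_of_le' {G : Type*} [Group G] {H : Type*} [Group H] [Finite H] {φ ψ : H →* G}
    (hφ : Function.Injective φ) (h : φ.range ≤ ψ.range) : φ.range = ψ.range := by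
  have : Finite ψ.range := Finite.of_surjective _ ψ.rangeRestrict_surjective
  refine Subgroup.eq_of_le_of_card_ge h ?_
  rw [← Nat.card_congr (MonoidHom.ofInjective hφ).toEquiv]
  exact Nat.card_le_card_of_surjective _ ψ.rangeRestrict_surjective

/-- Two `SU₂`'s generating `SU₃` with commuting tori are in standard position. -/
theorem exists_std_su3 (hq : UField σ q) (φ ψ : SU 2 F q →* SU 3 F q)
    (hφ : Function.Injective φ) (hψ : Function.Injective ψ) (hgen : φ.range ⊔ ψ.range = ⊤)
    {a b : SU 2 F q} (ha : a ≠ 1) (hb : b ≠ 1) (ha' : a ^ (q + 1) = 1) (hb' : b ^ (q + 1) = 1)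
    (hc : Commute (φ a) (ψ b)) : ∃ θ : SU 3 F q ≃* SU 3 F q,
      (θ.toMonoidHom.comp φ).range = (upU hq).range ∧
        (θ.toMonoidHom.comp ψ).range = (loU hq).range := by
  have := hq.finite
  obtain ⟨U, hU, hd⟩ := exists_unitary_diag hq ![φ a, ψ b]
    (by
      simp only [Fin.forall_fin_two]
      exact ⟨⟨Commute.refl _, hc⟩, hc.symm, Commute.refl _⟩)
    (by
      simp only [Fin.forall_fin_two]
      exact ⟨by simp [← map_pow, ha'], by simp [← map_pow, hb']⟩)
  obtain ⟨d, hd1⟩ := hd 0
  obtain ⟨d', hd2⟩ := hd 1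
  set c := cjU hq U hU
  obtain ⟨k, hk⟩ := exists_fix_ev hq (c.toMonoidHom.comp φ) (c.injective.comp hφ) ha hd1
  obtain ⟨l, hl⟩ := exists_fix_ev hq (c.toMonoidHom.comp ψ) (c.injective.comp hψ) hb hd2
  have hkl : k ≠ l := by
    rintro rfl
    have h1 : φ.range ⊔ ψ.range ≤ (fixV (ev k)).comap c.toMonoidHom :=
      sup_le (by rintro _ ⟨s, rfl⟩; exact hk s) (by rintro _ ⟨s, rfl⟩; exact hl s)
    rw [hgen] at h1
    have h2 : ∀ g : SU 3 F q, g ∈ fixV (ev k) := fun g => by
      simpa using h1 (Subgroup.mem_top (c.symm g))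
    have e1 := congrFun (show mat _ *ᵥ _ = _ from h2 (upU hq (w2 hq))) k
    have e2 := congrFun (show mat _ *ᵥ _ = _ from h2 (loU hq (w2 hq))) k
    fin_cases k <;> simp [ev, mat_upU, mat_loU, mat_w2] at e1 e2
  obtain ⟨π, h1, h3⟩ : ∃ π : Equiv.Perm (Fin 3), π 2 = k ∧ π 0 = l := by
    clear hk hl; revert k l; decide
  have fx : ∀ (g : SU 3 F q) x, g ∈ fixV (ev (π x)) → mat (rxU hq π g) *ᵥ ev x = ev x := by
    intro g x hg
    ext i
    have := congrFun (show mat g *ᵥ _ = _ from hg) (π i)
    simpa [ev, mat_rxU, Pi.single_apply] using this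
  refine ⟨c.trans (rxU hq π), range_eq_of_le' ((c.trans (rxU hq π)).injective.comp hφ) ?_,
    range_eq_of_le' ((c.trans (rxU hq π)).injective.comp hψ) ?_⟩
  · rintro _ ⟨s, rfl⟩
    refine mem_range_of_fix hq _ fun x hx => ?_
    obtain rfl : x = 2 := by revert x; decide
    exact fx _ _ (h1 ▸ hk s)
  · rintro _ ⟨s, rfl⟩
    refine mem_range_of_fix hq _ fun x hx => ?_
    obtain rfl : x = 0 := by revert x; decide
    exact fx _ _ (h3 ▸ hl s)

end Cfsg.Agent.Phan
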