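import Mathlib
import Cfsg.Agent.Phan.StdU

/-!
# Weak Phan systems for `q ≥ 3`
-/

namespace Cfsg.Agent.Phan

open Matrix Cfsg.Agent.Cl

variable {F : Type*} [Field F] {σ : F →+* F} {q : ℕ} {G : Type*} [Group G]

/-- Two consecutive coherent standard pairs come from a homomorphism of `SU₄`. -/
def Four (hq : UField σ q) (ρ ρ' : SU 3 F q →* G) : Prop :=
  ∃ f : SU 4 F q →* G, f.comp (embU hq (iv 0 (by omega))) = ρ.comp (upU hq) ∧
    f.comp (embU hq (iv 1 (by omega))) = ρ.comp (loU hq) ∧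
    f.comp (embU hq (iv 2 (by omega))) = ρ'.comp (loU hq)

theorem weak_phan (hq : UField σ q) {n : ℕ} (hn : 2 ≤ n) (U : Fin n → Subgroup G)
    (V : Fin n → Fin n → Subgroup G)
    (h1 : ∀ i j : Fin n, (i : ℕ) + 2 ≤ j → ∀ x ∈ U i, ∀ y ∈ U j, x * y = y * x)
    (h2 : ∀ i j : Fin n, (i : ℕ) + 1 = j → IsStandardUnitaryPair (V i j) (U i) (U j) F q)
    (hgen : (⨆ i, U i) ⊔ (⨆ (i : Fin n) (j : Fin n) (_ : (i : ℕ) + 1 = j), V i j) = ⊤)
    (h4 : 4 ≤ q ∨ (3 ≤ q ∧ ∀ i j k : Fin n, (i : ℕ) + 1 = j → (j : ℕ) + 1 = k →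
      ∀ ρ ρ' : SU 3 F q →* G, StdU hq ρ (U i) (U j) (V i j) → StdU hq ρ' (U j) (U k) (V j k) →
        ρ'.comp (upU hq) = ρ.comp (loU hq) → Four hq ρ ρ')) :
    ∃ f : SU (n + 1) F q →* G, Function.Surjective f := by
  let U' : ℕ → Subgroup G := fun i => if h : i < n then U ⟨i, h⟩ else ⊥
  let V' : ℕ → Subgroup G := fun i => if h : i + 1 < n then V ⟨i, by omega⟩ ⟨i + 1, h⟩ else ⊥
  have hU : ∀ i (h : i < n), U' i = U ⟨i, h⟩ := fun i h => dif_pos h
  have hV : ∀ i (h : i + 1 < n), V' i = V ⟨i, by omega⟩ ⟨i + 1, h⟩ := fun i h => dif_pos h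
  obtain ⟨ρ, hρ, hc⟩ := exists_chain hq (n - 1) U' V'
    (fun i hi => by
      rw [hU i (by omega), hU (i + 2) (by omega)]; exact h1 _ _ le_rfl)
    (fun i hi => by
      rw [hU i (by omega), hU (i + 1) (by omega), hV i (by omega)]; exact h2 _ _ rfl)
  let φ : ℕ → SU 2 F q →* G := fun i =>
    if i + 1 < n then (ρ i).comp (upU hq) else (ρ (i - 1)).comp (loU hq)
  have hup : ∀ i, i + 3 ≤ n + 1 → (ρ i).comp (upU hq) = φ i := fun i hi =>
    (if_pos (by omega)).symm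
  have hlo : ∀ i, i + 3 ≤ n + 1 → (ρ i).comp (loU hq) = φ (i + 1) := fun i hi => by
    by_cases h : i + 1 + 1 < n
    · rw [← hc i (by omega)]; exact (if_pos h).symm
    · exact (if_neg h).symm
  have hr : ∀ i (h : i < n), (φ i).range = U ⟨i, h⟩ := fun i h => by
    by_cases h' : i + 1 < n
    · rw [← hup i (by omega), (hρ i (by omega)).rA, hU]
    · obtain ⟨j, rfl⟩ : ∃ j, i = j + 1 := ⟨i - 1, by omega⟩
      rw [← hlo j (by omega), (hρ j (by omega)).rB, hU]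
  obtain ⟨f, hf1, hf2⟩ := exists_hom_chain hq (N := n + 1) (by omega) φ ρ hup hlo
    (fun i k h3 h5 s t => h1 ⟨i, by omega⟩ ⟨k, by omega⟩ h3 _ ((hr i _).le ⟨s, rfl⟩) _
      ((hr k _).le ⟨t, rfl⟩))
    (h4.imp_right fun h => ⟨h.1, fun i hi => by
      have a1 := hρ i (by omega)
      have a2 := hρ (i + 1) (by omega)
      rw [hU i (by omega), hU (i + 1) (by omega), hV i (by omega)] at a1
      rw [hU (i + 1) (by omega), hU (i + 1 + 1) (by omega), hV (i + 1) (by omega)] at a2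
      obtain ⟨f, b0, b1, b2⟩ := h.2 _ _ _ rfl rfl _ _ a1 a2 (hc i (by omega))
      refine ⟨f, fun j hj => ?_⟩
      obtain rfl | rfl | rfl : j = 0 ∨ j = 1 ∨ j = 2 := by omega
      · exact b0.trans (hup i (by omega))
      · exact b1.trans (hlo i (by omega))
      · exact b2.trans (hlo (i + 1) (by omega))⟩)
  refine ⟨f, MonoidHom.range_eq_top.1 (eq_top_iff.2 ?_)⟩
  rw [← hgen]
  refine sup_le (iSup_le fun i => ?_) (iSup_le fun i => iSup₂_le fun j hij => ?_)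
  · rw [← hr i i.2]; exact hf1 i (by omega)
  · obtain ⟨j, hj⟩ := j
    obtain rfl : i + 1 = j := hij
    rw [← hV i hj, ← (hρ i (by omega)).rV]; exact hf2 i (by omega)

end Cfsg.Agent.Phan
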