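import Mathlib
import Cfsg.Agent.Phan.Weak
import Cfsg.Agent.Phan.UDiag

/-!
# Matching a homomorphism of `SU₄` with given parametrisations of its blocks
-/

namespace Cfsg.Agent.Phan

open Matrix Cfsg.Agent.Cl

variable {F : Type*} [Field F] {σ : F →+* F} {q : ℕ} {G : Type*} [Group G]

theorem aut_eq_of_norm_one (hq : UField σ q) {τ τ' : F ≃+* F}
    (h : ∀ a, a * σ a = 1 → τ a = τ' a) : τ = τ' := by
  let κ := τ.trans τ'.symm
  have h1 : ∀ a, κ a * σ a = a * σ (κ a) := fun a => by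
    by_cases ha : a = 0
    · simp [ha]
    have ha' : σ a ≠ 0 := (map_ne_zero σ).2 ha
    have e : κ (a / σ a) = a / σ a := by
      apply τ'.injective
      rw [← h (a / σ a) (by rw [map_div₀, hq.invol.invol]; field_simp)]; simp [κ]
    rw [map_div₀, map_comm_σ hq, div_eq_div_iff ((map_ne_zero σ).2 ((map_ne_zero κ).2 ha)) ha'] at e
    exact e
  have h2 : ∀ a, σ a ≠ a → κ a = a := fun a ha => by
    have e1 := h1 a
    have e2 := h1 (1 + a)
    simp only [map_add, map_one] at e2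
    exact mul_right_cancel₀ (sub_ne_zero.2 ha) (by linear_combination (1 + a) * e1 - a * e2)
  obtain ⟨θ, -, hθ⟩ := hq.invol.exists_norm_one_ne
  have h3 : ∀ a, κ a = a := fun a => by
    by_cases ha : σ a = a
    · have := h2 (a + θ) (by rw [map_add, ha]; simpa using hθ)
      rw [map_add, h2 θ hθ] at this
      exact add_right_cancel this
    · exact h2 a ha
  ext a
  simpa [κ] using congrArg τ' (h3 a)

theorem dgU_map_dg2 (hq : UField σ q) {u : F} (hu : u * σ u = 1) (τ : F ≃+* F) {a : F}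
    (ha : a * σ a = 1) : dgU hq ![u, 1] (norm_vec' hu) (suMapEquiv 2 q τ (dg2 hq a ha)) =
      dg2 hq (τ a) (by rw [← map_comm_σ hq, ← map_mul, ha, map_one]) := su_ext (by
  ext i j
  rw [mat_dgU, mat_suMapEquiv, map_dg2, mat_dg2]
  fin_cases i <;> fin_cases j <;> simp [map_comm_σ hq]
  linear_combination τ a * hu)

theorem field_eq {hq : UField σ q} {ρ₀ ρ : SU 3 F q →* G}
    (h₀ : Function.Injective (ρ₀.comp (upU hq))) {u u' : F} {hu : u * σ u = 1}
    {hu' : u' * σ u' = 1} {τ τ' : F ≃+* F}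
    (h1 : ∀ s, ρ₀ (upU hq (dgU hq ![u, 1] (norm_vec' hu) (suMapEquiv 2 q τ s))) = ρ (upU hq s))
    (h2 : ∀ s, ρ₀ (loU hq (dgU hq ![u', 1] (norm_vec' hu') (suMapEquiv 2 q τ' s))) =
      ρ (loU hq s)) : τ = τ' := by
  refine aut_eq_of_norm_one hq fun a ha => ?_
  have e := congrArg ρ (lo_dg2_mul_up hq ha (w2 hq))
  rw [map_mul, map_mul, ← h1, ← h1, ← h2, dgU_map_dg2 hq hu', ← map_mul, lo_dg2_mul_up, map_mul,
    mul_left_inj] at e
  have := congrFun (congrFun (congrArg mat (h₀ e)) 0) 1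
  simp [mat_dgU, mat_suMapEquiv, mat_w2, map_comm_σ hq] at this
  exact σ.injective (this.resolve_right (left_ne_zero_of_mul_eq_one hu)).symm

theorem dgU_ratio (hq : UField σ q) {d : Fin 2 → F} (hd : ∀ i, d i * σ (d i) = 1) {u : F}
    (hu : u * σ u = 1) (e : d 0 = u * d 1) (s : SU 2 F q) :
    dgU hq d hd s = dgU hq ![u, 1] (norm_vec' hu) s := by
  apply su_ext; ext i j
  have := hd 1
  fin_cases i <;> fin_cases j <;> simp [mat_dgU, e] <;>
    first | linear_combination (u * mat s 0 0 * σ u) * this | linear_combination (u * mat s 0 1) * this |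
      linear_combination (mat s 1 0 * σ u) * this | linear_combination (mat s 1 1) * this

theorem stdU_embU (hq : UField σ q) {f : SU 4 F q →* G}
    (hk : ∀ c, f c = 1 → c ∈ Subgroup.center (SU 4 F q)) (i : ℕ) (hi : i + 3 ≤ 4) :
    StdU hq (f.comp (embU hq (iv i hi))) (f.comp (embU hq (iv (k := 2) i (by omega)))).range
      (f.comp (embU hq (iv (k := 2) (i + 1) (by omega)))).range (f.comp (embU hq (iv i hi))).range where
  ker g hg := by
    obtain ⟨x, hx⟩ : ∃ x, ∀ a, x ≠ iv i hi a := by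
      clear hg
      obtain rfl | rfl : i = 0 ∨ i = 1 := by omega
      · exact ⟨3, fun a e => by have : 3 = 0 + a.val := congrArg Fin.val e; omega⟩
      · exact ⟨0, fun a e => by have : 0 = 1 + a.val := congrArg Fin.val e; omega⟩
    rw [eq_one_of_embU_mem_center hq (by omega) _ hx (hk _ hg)]; exact Subgroup.one_mem _
  rA := congrArg MonoidHom.range (MonoidHom.ext fun s => congrArg f
    ((embU_embU hq _ _ s).trans (by rw [iv_trans]; rfl)))
  rB := congrArg MonoidHom.range (MonoidHom.ext fun s => congrArg f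
    ((embU_embU hq _ _ s).trans (by rw [iv_trans])))
  rV := rfl

/-- **Matching.** -/
theorem exists_match (hq : UField σ q) {f : SU 4 F q →* G}
    (hk : ∀ c, f c = 1 → c ∈ Subgroup.center (SU 4 F q)) {A B C V V' : Subgroup G}
    (rA : (f.comp (embU hq (iv (k := 2) 0 (by omega)))).range = A)
    (rB : (f.comp (embU hq (iv (k := 2) 1 (by omega)))).range = B)
    (rC : (f.comp (embU hq (iv (k := 2) 2 (by omega)))).range = C)
    {ρ ρ' : SU 3 F q →* G} (h : StdU hq ρ A B V) (h' : StdU hq ρ' B C V')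
    (e : ρ'.comp (upU hq) = ρ.comp (loU hq)) :
    ∃ (d : Fin 4 → F) (hd : ∀ i, d i * σ (d i) = 1) (τ : F ≃+* F),
      (∀ s, f (dgU hq d hd (suMapEquiv 4 q τ (embU hq (iv 0 (by omega)) s))) = ρ (upU hq s)) ∧
      (∀ s, f (dgU hq d hd (suMapEquiv 4 q τ (embU hq (iv 1 (by omega)) s))) = ρ (loU hq s)) ∧
      ∀ s, f (dgU hq d hd (suMapEquiv 4 q τ (embU hq (iv 2 (by omega)) s))) = ρ' (loU hq s) := by
  have s0 := stdU_embU hq hk 0 (by omega)
  have s1 := stdU_embU hq hk 1 (by omega)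
  rw [rA, rB] at s0
  rw [rB, rC] at s1
  obtain ⟨α0, a0⟩ := exists_aut_of_range s0.inj_up h.inj_up (s0.rA.trans h.rA.symm)
  obtain ⟨α1, a1⟩ := exists_aut_of_range s0.inj_lo h.inj_lo (s0.rB.trans h.rB.symm)
  obtain ⟨α2, a2⟩ := exists_aut_of_range s1.inj_lo h'.inj_lo (s1.rB.trans h'.rB.symm)
  simp only [MonoidHom.comp_apply] at a0 a1 a2
  obtain ⟨u0, hu0, τ0, b0⟩ := exists_diag_of_torus hq α0 fun a ha =>
    s0.diag_of_up (by rw [MonoidHom.comp_apply, a0]; exact h.up_dg2_mem ha)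
  obtain ⟨u1, hu1, τ1, b1⟩ := exists_diag_of_torus hq α1 fun a ha =>
    s0.diag_of_lo (by rw [MonoidHom.comp_apply, a1]; exact h.lo_dg2_mem ha)
  obtain ⟨u2, hu2, τ2, b2⟩ := exists_diag_of_torus hq α2 fun a ha =>
    s1.diag_of_lo (by rw [MonoidHom.comp_apply, a2]; exact h'.lo_dg2_mem ha)
  simp only [b0, b1, b2] at a0 a1 a2
  have c01 : ∀ s, embU hq (iv (N := 4) 1 (by omega)) (upU hq s) =
      embU hq (iv 0 (by omega)) (loU hq s) := fun s => by
    rw [embU_embU, embU_embU, iv_trans, iv_trans]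
  obtain rfl : τ0 = τ1 := field_eq (hu := hu0) (hu' := hu1) s0.inj_up a0 a1
  obtain rfl : τ0 = τ2 := field_eq (ρ := ρ') (hu := hu1) (hu' := hu2) s1.inj_up (fun s => by
    rw [MonoidHom.comp_apply, c01, a1]; exact (DFunLike.congr_fun e s).symm) a2
  have hd : ∀ i, ![u0 * u1 * u2, u1 * u2, u2, 1] i * σ (![u0 * u1 * u2, u1 * u2, u2, 1] i) = 1 := by
    intro i
    fin_cases i <;> simp
    · linear_combination (u1 * σ u1 * u2 * σ u2) * hu0 + (u2 * σ u2) * hu1 + hu2
    · linear_combination (u2 * σ u2) * hu1 + hu2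
    · exact hu2
  refine ⟨_, hd, τ0, fun s => ?_, fun s => ?_, fun s => ?_⟩
  · rw [suMapEquiv_embU, dgU_embU, dgU_ratio hq _ hu0 (mul_assoc _ _ _), ← a0, embU_embU, iv_trans]
  · rw [suMapEquiv_embU, dgU_embU, dgU_ratio hq _ hu1 rfl, ← a1, embU_embU, iv_trans]
  · rw [suMapEquiv_embU, dgU_embU, dgU_ratio hq _ hu2 (mul_one _).symm, ← a2, embU_embU, iv_trans]

theorem four_of_ranges (hq : UField σ q) {f : SU 4 F q →* G}
    (hk : ∀ c, f c = 1 → c ∈ Subgroup.center (SU 4 F q)) {A B C V V' : Subgroup G}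
    (rA : (f.comp (embU hq (iv (k := 2) 0 (by omega)))).range = A)
    (rB : (f.comp (embU hq (iv (k := 2) 1 (by omega)))).range = B)
    (rC : (f.comp (embU hq (iv (k := 2) 2 (by omega)))).range = C)
    {ρ ρ' : SU 3 F q →* G} (h : StdU hq ρ A B V) (h' : StdU hq ρ' B C V')
    (e : ρ'.comp (upU hq) = ρ.comp (loU hq)) : Four hq ρ ρ' := by
  obtain ⟨d, hd, τ, h0, h1, h2⟩ := exists_match hq hk rA rB rC h h' e
  exact ⟨f.comp ((suMapEquiv 4 q τ).trans (dgU hq d hd)).toMonoidHom, MonoidHom.ext h0,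
    MonoidHom.ext h1, MonoidHom.ext h2⟩

end Cfsg.Agent.Phan
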