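import Mathlib
import Cfsg.Agent.Phan.Match
import Cfsg.Agent.Cl.USimple
import Cfsg.Agent.GT.Quasisimple

/-!
# Images of `SU₄(3)` generated by two standard pairs
-/

namespace Cfsg.Agent.Phan

open Matrix Cfsg.Agent.Cl

variable {F : Type*} [Field F] {σ : F →+* F} {q n : ℕ} {G : Type*} [Group G]

section Central

variable {H : Type*} [Group H] {g : H →* G}

theorem exists_central (hk : ∀ c, g c = 1 → c ∈ Subgroup.center H) {x y : H} (e : g x = g y) :
    ∃ c ∈ Subgroup.center H, g c = 1 ∧ x = c * y :=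
  ⟨x * y⁻¹, hk _ (by simp [e]), by simp [e], by simp⟩

theorem conj_pow_central {x y c : H} (hc : c ∈ Subgroup.center H) (e : x * y = c * (y * x))
    (m : ℕ) : x ^ m * y = c ^ m * (y * x ^ m) := by
  have h := fun z => Subgroup.mem_center_iff.1 hc z
  induction m with
  | zero => simp
  | succ m ih =>
    rw [pow_succ', mul_assoc, ih, ← mul_assoc, Subgroup.mem_center_iff.1 (pow_mem hc m) x,
      mul_assoc, ← mul_assoc x, e, pow_succ c]
    simp only [mul_assoc]

theorem commutator_central {c d : H} (hc : c ∈ Subgroup.center H) (hd : d ∈ Subgroup.center H)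
    (x y : H) : c * x * (d * y) * (c * x)⁻¹ * (d * y)⁻¹ = x * y * x⁻¹ * y⁻¹ := by
  have h1 : c * x * (d * y) * (c * x)⁻¹ = d * (x * y * x⁻¹) := by
    rw [show c * x * (d * y) * (c * x)⁻¹ = c * (x * d * y * x⁻¹) * c⁻¹ by group,
      ← Subgroup.mem_center_iff.1 hc, Subgroup.mem_center_iff.1 hd x]; group
  rw [h1, show d * (x * y * x⁻¹) * (d * y)⁻¹ = d * (x * y * x⁻¹ * y⁻¹) * d⁻¹ by group,
    ← Subgroup.mem_center_iff.1 hd]; group

theorem commute_of_pow (hk : ∀ c, g c = 1 → c ∈ Subgroup.center H) {m p : ℕ}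
    (hm : ∀ c ∈ Subgroup.center H, c ^ m = 1) (hp : p.Coprime m) {x y : H} (hx : x ^ p = 1)
    (h : Commute (g x) (g y)) : Commute x y := by
  obtain ⟨c, hc, -, e⟩ := exists_central hk (x := x * y) (y := y * x) (by simpa using h.eq)
  have e1 := conj_pow_central hc e p
  rw [hx, one_mul, mul_one, right_eq_mul] at e1
  have : c = 1 := by
    rw [← orderOf_eq_one_iff]
    exact Nat.eq_one_of_dvd_coprimes hp (orderOf_dvd_of_pow_eq_one e1)
      (orderOf_dvd_of_pow_eq_one (hm c hc))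
  rwa [this, one_mul] at e

theorem exists_lift_coprime (hk : ∀ c, g c = 1 → c ∈ Subgroup.center H) {m p : ℕ}
    (hm : ∀ c ∈ Subgroup.center H, c ^ m = 1) (hp : m.Coprime p) (h1 : 1 < p) {x : G}
    (hx : x ∈ g.range) (hxp : x ^ p = 1) : ∃ u, g u = x ∧ u ^ p = 1 := by
  obtain ⟨u, rfl⟩ := hx
  obtain ⟨j, -, hj⟩ := Nat.exists_mul_mod_eq_one_of_coprime hp h1
  refine ⟨u ^ (m * j), by rw [map_pow, pow_eq_pow_mod _ hxp, hj, pow_one], ?_⟩
  rw [← pow_mul, mul_comm, pow_mul, pow_mul, hm (u ^ p) (hk _ (by rw [map_pow, hxp])), one_pow]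

/-- The commutator of lifts of generators of a quaternion group is an involution. -/
theorem sq_commutator (hk : ∀ c, g c = 1 → c ∈ Subgroup.center H) {x y : H}
    (hx : g (x * y * x⁻¹ * y⁻¹) = g (x ^ 2)) (hy : g (x * y * x⁻¹ * y⁻¹) = g (y ^ 2)) :
    (x * y * x⁻¹ * y⁻¹) ^ 2 = 1 := by
  obtain ⟨c, hc, -, e⟩ := exists_central hk hx
  obtain ⟨d, hd, -, e'⟩ := exists_central hk hy
  set z := x * y * x⁻¹ * y⁻¹ with hz
  have h1 : Commute z x := by
    rw [e]; exact (show Commute c x from (Subgroup.mem_center_iff.1 hc x).symm).mul_left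
      (Commute.self_pow x 2).symm
  have h2 : Commute z y := by
    rw [e']; exact (show Commute d y from (Subgroup.mem_center_iff.1 hd y).symm).mul_left
      (Commute.self_pow y 2).symm
  have h3 : Commute (x ^ 2) y := by
    rw [show x ^ 2 = c⁻¹ * z by rw [e]; group]
    exact (show Commute c y from (Subgroup.mem_center_iff.1 hc y).symm).inv_left.mul_left h2
  have h4 : x * y = z * (y * x) := by rw [hz]; group
  have h5 : x ^ 2 * y = z ^ 2 * (y * x ^ 2) := by
    rw [pow_two, mul_assoc, h4, ← mul_assoc, ← h1.eq, mul_assoc, ← mul_assoc x, h4]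
    simp only [pow_two, mul_assoc]
  rwa [h3.eq, right_eq_mul] at h5

end Central

theorem center_pow (hq : UField σ q) (hn : 2 ≤ n) (c : SU n F q) (hc : c ∈ Subgroup.center _) :
    c ^ n = 1 := by
  obtain ⟨a, ha⟩ := (hq.mem_center_SU_iff hn).1 hc
  have ha' : mat c = a • 1 := ha
  have := su_det c
  rw [ha', det_smul, det_one, mul_one, Fintype.card_fin] at this
  exact su_ext (by rw [mat_pow, ha', smul_pow, this, one_pow, one_smul, mat_one])

theorem ker_le_center (hq : UField σ q) (hn : 4 ≤ n) {g : SU n F q →* G} {x : SU n F q}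
    (hx : g x ≠ 1) (c : SU n F q) (hc : g c = 1) : c ∈ Subgroup.center _ := by
  have h : IsQuasisimple (SU n F q) :=
    ⟨⟨hq.commutator_SU (by omega) (by omega)⟩, hq.isSimpleGroup_PSU (by omega) (by omega)⟩
  rcases h.normal_eq_top_or_le_center g.ker with h | h
  · exact absurd (show x ∈ g.ker by rw [h]; trivial) hx
  · exact h hc

/-- The central involution of `SU₂`. -/
def mU (hq : UField σ q) : SU 2 F q := dg2 hq (-1) (by simp)

theorem mat_mU (hq : UField σ q) : mat (mU hq) = -1 := by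
  rw [mU, mat_dg2]; ext i j; fin_cases i <;> fin_cases j <;> simp

theorem commute_mU (hq : UField σ q) (s : SU 2 F q) : Commute s (mU hq) :=
  su_ext (by rw [mat_mul, mat_mul, mat_mU]; simp)

theorem commute_of_nonscalar {T S S' : Matrix (Fin 2) (Fin 2) F} (hT : ∀ a : F, T ≠ a • 1)
    (h : Commute T S) (h' : Commute T S') : Commute S S' := by
  have e := fun i j => congrFun (congrFun h.eq i) j
  have e' := fun i j => congrFun (congrFun h'.eq i) j
  have a1 := e 0 0
  have a2 := e 0 1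
  have a3 := e 1 0
  have b1 := e' 0 0
  have b2 := e' 0 1
  have b3 := e' 1 0
  simp only [mul_apply, Fin.sum_univ_two] at a1 a2 a3 b1 b2 b3
  have key : ∀ c : F, c ≠ 0 → c * (S 0 1 * S' 1 0 - S' 0 1 * S 1 0) = 0 →
      c * (S 0 1 * (S' 0 0 - S' 1 1) - S' 0 1 * (S 0 0 - S 1 1)) = 0 →
      c * (S 1 0 * (S' 0 0 - S' 1 1) - S' 1 0 * (S 0 0 - S 1 1)) = 0 → Commute S S' := by
    intro c hc k1 k2 k3
    replace k1 := (mul_eq_zero.1 k1).resolve_left hc
    replace k2 := (mul_eq_zero.1 k2).resolve_left hc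
    replace k3 := (mul_eq_zero.1 k3).resolve_left hc
    ext i j
    fin_cases i <;> fin_cases j <;> simp only [mul_apply, Fin.sum_univ_two] <;> simp
    · linear_combination k1
    · linear_combination -k2
    · linear_combination k3
    · linear_combination -k1
  by_cases c1 : T 0 1 = 0
  · by_cases c2 : T 1 0 = 0
    · by_cases c3 : T 0 0 - T 1 1 = 0
      · refine absurd ?_ (hT (T 0 0))
        ext i j; fin_cases i <;> fin_cases j <;> simp [c1, c2]
        linear_combination -c3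
      · rw [c1] at a2 b2
        rw [c2] at a3 b3
        exact key _ c3 (by linear_combination S' 1 0 * a2 - S 1 0 * b2)
          (by linear_combination (S' 0 0 - S' 1 1) * a2 - (S 0 0 - S 1 1) * b2)
          (by linear_combination (-(S' 0 0 - S' 1 1)) * a3 + (S 0 0 - S 1 1) * b3)
    · exact key _ c2
        (by rw [c1] at a1 b1; linear_combination (-S' 1 0) * a1 + S 1 0 * b1)
        (by rw [c1] at a1 b1
            linear_combination (-(S' 0 0 - S' 1 1)) * a1 + (S 0 0 - S 1 1) * b1)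
        (by linear_combination S 1 0 * b3 - S' 1 0 * a3)
  · have k1 : T 0 1 * (S 0 1 * S' 1 0 - S' 0 1 * S 1 0) = 0 := by
      linear_combination S 0 1 * b1 - S' 0 1 * a1
    exact key _ c1 k1 (by linear_combination (-S 0 1) * b2 + S' 0 1 * a2)
      (by linear_combination (-S 1 0) * b2 + S' 1 0 * a2 -
        (T 0 0 - T 1 1) * (mul_eq_zero.1 k1).resolve_left c1)

theorem eq_one_of_commute (p : ℕ) [Fact p.Prime] [CharP F p] {t s s' : SU 2 F q} (ht : t ^ p = 1)
    (h : Commute s t) (h' : Commute s' t) (hs : ¬ Commute s s') : t = 1 := by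
  by_contra h1
  refine hs (su_ext (commute_of_nonscalar (T := mat t) (fun a ha => h1 (su_ext ?_))
    (congrArg mat h.symm.eq) (congrArg mat h'.symm.eq)))
  have := congrFun (congrFun (congrArg mat ht) 0) 0
  rw [mat_pow, ha, smul_pow, one_pow, mat_one] at this
  rw [ha, eq_one_of_pow_char p (r := a) (by simpa using this), one_smul, mat_one]

section Blocks

variable {k m : ℕ} {j : Fin k ↪ Fin n} {j' : Fin m ↪ Fin n}

theorem embM_mul_embM (h : ∀ a b, j a ≠ j' b) (M : Matrix (Fin k) (Fin k) F)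
    (M' : Matrix (Fin m) (Fin m) F) : embM j M * embM j' M' = embM j M + embM j' M' - 1 := by
  have e : (pm F j)ᵀ * pm F j' = 0 := by
    ext a b; simp [pm, mul_apply, (h _ _).symm]
  simp only [embM, add_mul, mul_add, one_mul, mul_one, Matrix.mul_assoc]
  rw [← Matrix.mul_assoc (pm F j)ᵀ, e]
  simp only [Matrix.zero_mul, Matrix.mul_zero, add_zero]
  abel

theorem embM_mul_embM_apply (h : ∀ a b, j a ≠ j' b) (M : Matrix (Fin k) (Fin k) F)
    (M' : Matrix (Fin m) (Fin m) F) (a b : Fin k) : (embM j M * embM j' M') (j a) (j b) = M a b := by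
  rw [embM_mul_embM h, Matrix.sub_apply, Matrix.add_apply, embM_apply j.injective, embM_apply_left j' _ (h a),
    add_sub_cancel_right]

theorem embM_comm (h : ∀ a b, j a ≠ j' b) (M : Matrix (Fin k) (Fin k) F)
    (M' : Matrix (Fin m) (Fin m) F) : embM j M * embM j' M' = embM j' M' * embM j M := by
  rw [embM_mul_embM h, embM_mul_embM fun a b => (h b a).symm, add_comm]

theorem embM_pair_inj (h : ∀ a b, j a ≠ j' b) {M N : Matrix (Fin k) (Fin k) F}
    {M' N' : Matrix (Fin m) (Fin m) F} (e : embM j M * embM j' M' = embM j N * embM j' N') :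
    M = N ∧ M' = N' := by
  constructor
  · ext a b; rw [← embM_mul_embM_apply h M M', e, embM_mul_embM_apply h]
  · rw [embM_comm h, embM_comm h] at e
    ext a b
    rw [← embM_mul_embM_apply (fun a b => (h b a).symm) M' M, e,
      embM_mul_embM_apply fun a b => (h b a).symm]

theorem embM_pair_mul (h : ∀ a b, j a ≠ j' b) (M N : Matrix (Fin k) (Fin k) F)
    (M' N' : Matrix (Fin m) (Fin m) F) : embM j M * embM j' M' * (embM j N * embM j' N') =
      embM j (M * N) * embM j' (M' * N') := by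
  rw [embM_mul j.injective, embM_mul j'.injective, mul_assoc, ← mul_assoc (embM j' M'),
    ← embM_comm h]
  simp only [mul_assoc]

theorem eq_embM_pair (h : ∀ a b, j a ≠ j' b) (hcov : ∀ x, (∃ a, x = j a) ∨ ∃ b, x = j' b)
    {X : Matrix (Fin n) (Fin n) F} (h1 : ∀ a b, X (j a) (j' b) = 0 ∧ X (j' b) (j a) = 0) :
    X = embM j (X.submatrix j j) * embM j' (X.submatrix j' j') := by
  ext x y
  rcases hcov x with ⟨a, rfl⟩ | ⟨a, rfl⟩ <;> rcases hcov y with ⟨b, rfl⟩ | ⟨b, rfl⟩
  · rw [embM_mul_embM_apply h]; rfl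
  · rw [embM_mul_embM h, Matrix.sub_apply, Matrix.add_apply, embM_apply_left j' _ (h a),
      embM_apply_right j _ _ fun c => (h c b).symm, (h1 a b).1, one_apply_ne (h a b)]; simp
  · rw [embM_mul_embM h, Matrix.sub_apply, Matrix.add_apply, embM_apply_right j' _ _ (h b),
      embM_apply_left j _ fun c => (h c a).symm, (h1 b a).2, one_apply_ne (h b a).symm]; simp
  · rw [embM_comm h, embM_mul_embM_apply fun a b => (h b a).symm]; rfl

/-- A block diagonal element of order `p` is a product of block elements of order `p`. -/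
theorem exists_pair (hq : UField σ q) (p : ℕ) [Fact p.Prime] [CharP F p] (h : ∀ a b, j a ≠ j' b)
    (hcov : ∀ x, (∃ a, x = j a) ∨ ∃ b, x = j' b) {x : SU n F q} (hx : x ^ p = 1)
    (h1 : ∀ a b, mat x (j a) (j' b) = 0 ∧ mat x (j' b) (j a) = 0) :
    ∃ s s', s ^ p = 1 ∧ s' ^ p = 1 ∧ x = embU hq j s * embU hq j' s' := by
  have e := eq_embM_pair h hcov h1
  generalize (mat x).submatrix j j = M at e
  generalize (mat x).submatrix j' j' = M' at e
  have hp : ∀ r : ℕ, (embM j M * embM j' M') ^ r = embM j (M ^ r) * embM j' (M' ^ r) := fun r => by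
    induction r with
    | zero => simp [embM_one]
    | succ r ih => rw [pow_succ, ih, embM_pair_mul h, ← pow_succ, ← pow_succ]
  have e1 := embM_pair_inj h (N := 1) (N' := 1)
    (by rw [← hp p, ← e, ← mat_pow, hx, embM_one, embM_one, mat_one, mul_one])
  have e2 := embM_pair_inj h (M := Mᵀ * M.map σ) (M' := M'ᵀ * M'.map σ) (N := 1) (N' := 1) (by
    rw [← embM_pair_mul h, ← embM_transpose, ← embM_transpose, ← embM_map j.injective,
      ← embM_map j'.injective, ← transpose_mul, ← embM_comm h, ← Matrix.map_mul, ← e,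
      mat_unitary hq, embM_one, embM_one, mul_one])
  exact ⟨mkU hq M (eq_one_of_pow_char p (by rw [← det_pow, e1.1, det_one])) e2.1,
    mkU hq M' (eq_one_of_pow_char p (by rw [← det_pow, e1.2, det_one])) e2.2,
    su_ext e1.1, su_ext e1.2, su_ext e⟩

theorem commute_pair (hq : UField σ q) (h : ∀ a b, j a ≠ j' b) {s t : SU k F q} {s' t' : SU m F q} :
    Commute (embU hq j s * embU hq j' s') (embU hq j t * embU hq j' t') ↔
      Commute s t ∧ Commute s' t' := by
  have e : ∀ (s t : SU k F q) (s' t' : SU m F q), embU hq j s * embU hq j' s' *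
      (embU hq j t * embU hq j' t') = embU hq j (s * t) * embU hq j' (s' * t') :=
    fun s t s' t' => su_ext (embM_pair_mul h _ _ _ _)
  rw [Commute, SemiconjBy, e, e]
  refine ⟨fun h1 => ?_, fun h1 => by rw [h1.1.eq, h1.2.eq]⟩
  have := embM_pair_inj h (congrArg mat h1)
  exact ⟨su_ext this.1, su_ext this.2⟩

end Blocks

theorem exists_not_commute (hq : UField σ q) {S : Bool → Set (SU 2 F q)}
    (hgen : ∀ H : Subgroup (SU 2 F q), (∀ b, S b ⊆ H) → H = ⊤) :
    ∃ s, (∃ b, s ∈ S b) ∧ ∃ t, (∃ b, t ∈ S b) ∧ ¬ Commute s t := by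
  by_contra! h
  obtain ⟨x, y, hxy⟩ := not_commute_w2 hq
  have h1 := hgen (Subgroup.center _) fun b s hs => Subgroup.mem_center_iff.2 fun g =>
    Subgroup.mem_centralizer_singleton_iff.1 ((hgen (Subgroup.centralizer {s}) fun b' t ht =>
      Subgroup.mem_centralizer_singleton_iff.2 (h t ⟨b', ht⟩ s ⟨b, hs⟩)).ge (Subgroup.mem_top g))
  exact hxy (Subgroup.mem_center_iff.1 (h1.ge (Subgroup.mem_top y)) x)

section Core

variable {j j' : Fin 2 ↪ Fin 4} {g : SU 4 F q →* G} {φ ψ : SU 2 F q →* G}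

theorem core_aux (hq : UField σ q) (p : ℕ) [Fact p.Prime] [CharP F p] {S : Set (SU 2 F q)}
    (hgen : ∀ H : Subgroup (SU 2 F q), S ⊆ H → H = ⊤) {a a' b b' : SU 2 F q → SU 2 F q}
    (ha : ∀ s ∈ S, a' s ^ p = 1 ∧ g (embU hq j (a s) * embU hq j' (a' s)) = φ s)
    (hb : ∀ s ∈ S, b s ^ p = 1 ∧ g (embU hq j (b s) * embU hq j' (b' s)) = ψ s)
    (hc : ∀ s ∈ S, ∀ t ∈ S, Commute (a s) (b t) ∧ Commute (a' s) (b' t))
    (h1 : ∃ s ∈ S, ∃ t ∈ S, ¬ Commute (a s) (a t))
    (h2 : ∃ s ∈ S, ∃ t ∈ S, ¬ (Commute (b s) (b t) ∧ Commute (b' s) (b' t))) :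
    φ.range ≤ (g.comp (embU hq j)).range ∧ ψ.range ≤ (g.comp (embU hq j')).range := by
  obtain ⟨s, hs, s', hs', h1⟩ := h1
  have e1 : ∀ t ∈ S, b t = 1 := fun t ht =>
    eq_one_of_commute p (hb t ht).1 (hc s hs t ht).1 (hc s' hs' t ht).1 h1
  obtain ⟨t, ht, t', ht', h2⟩ := h2
  have e2 : ∀ s ∈ S, a' s = 1 := fun s hs =>
    eq_one_of_commute p (ha s hs).1 (hc s hs t ht).2.symm (hc s hs t' ht').2.symm
      fun h => h2 ⟨by rw [e1 t ht]; exact Commute.one_left _, h⟩
  constructor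
  · rintro _ ⟨x, rfl⟩
    exact (hgen ((g.comp (embU hq j)).range.comap φ) fun s hs =>
      ⟨a s, by rw [← (ha s hs).2, e2 s hs, map_one, mul_one]; rfl⟩).ge (Subgroup.mem_top x)
  · rintro _ ⟨x, rfl⟩
    exact (hgen ((g.comp (embU hq j')).range.comap ψ) fun s hs =>
      ⟨b' s, by rw [← (hb s hs).2, e1 s hs, map_one, one_mul]; rfl⟩).ge (Subgroup.mem_top x)

/-- Two commuting `SU₂`'s in the centraliser of the involution are the two blocks. -/
theorem range_eq_blocks (hq : UField σ q) (h2 : (2 : F) ≠ 0)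
    (hk : ∀ c, g c = 1 → c ∈ Subgroup.center _) (h : ∀ a b, j a ≠ j' b)
    (hcov : ∀ x, (∃ a, x = j a) ∨ ∃ b, x = j' b) (hφ : Function.Injective φ)
    (hψ : Function.Injective ψ) (rφ : φ.range ≤ g.range) (rψ : ψ.range ≤ g.range)
    (hc : ∀ s t, Commute (φ s) (ψ t)) {x y : SU 4 F q} (hx : g x ∈ φ.range) (hy : g y ∈ φ.range)
    (hz : x * y * x⁻¹ * y⁻¹ = embU hq j (mU hq)) (hcz : ∀ s, Commute (φ s) (g (embU hq j (mU hq)))) :
    φ.range = (g.comp (embU hq j)).range ∧ ψ.range = (g.comp (embU hq j')).range := by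
  have := hq.finite
  obtain ⟨p, hp⟩ := CharP.exists F
  have hpp : Fact p.Prime := ⟨CharP.char_is_prime F p⟩
  have hp2 : p ≠ 2 := by rintro rfl; exact h2 (CharP.cast_eq_zero F 2)
  have hp4 : p.Coprime 4 := ((Nat.coprime_primes hpp.out Nat.prime_two).2 hp2).pow_right 2
  have hm := center_pow hq (n := 4) (by omega)
  obtain ⟨S, hS, hgen⟩ := exists_su2_gens hq p
  have hcz' : ∀ t, Commute (ψ t) (g (embU hq j (mU hq))) := fun t => by
    obtain ⟨s, hs⟩ : g (embU hq j (mU hq)) ∈ φ.range := by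
      rw [← hz]; simp only [map_mul, map_inv]
      exact mul_mem (mul_mem (mul_mem hx hy) (inv_mem hx)) (inv_mem hy)
    rw [← hs]; exact (hc s t).symm
  have dec : ∀ χ : SU 2 F q →* G, χ.range ≤ g.range →
      (∀ s, Commute (χ s) (g (embU hq j (mU hq)))) → ∀ s, ∃ a a', (∃ b, s ∈ S b) →
        a ^ p = 1 ∧ a' ^ p = 1 ∧ g (embU hq j a * embU hq j' a') = χ s := by
    intro χ r hχ s
    by_cases hs : ∃ b, s ∈ S b
    swap
    · exact ⟨1, 1, fun h => absurd h hs⟩
    obtain ⟨b, hb⟩ := hs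
    obtain ⟨u, hu, hup⟩ := exists_lift_coprime hk hm hp4.symm hpp.out.one_lt (r ⟨s, rfl⟩)
      (by rw [← map_pow, (hS b s hb).1, map_one])
    have c := commute_of_pow hk hm hp4 hup (y := embU hq j (mU hq)) (by rw [hu]; exact hχ s)
    obtain ⟨d, d1, d2⟩ : ∃ d : Fin 4 → F, (∀ a, d (j a) = -1) ∧ ∀ x, (∀ a, x ≠ j a) → d x = 1 :=
      ⟨fun x => if ∃ a, x = j a then -1 else 1, fun a => if_pos ⟨a, rfl⟩,
        fun x hx => if_neg fun ⟨a, ha⟩ => hx a ha⟩
    have e : mat (embU hq j (mU hq)) = diagonal d :=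
      (eq_embM j.injective (fun a b => by
          by_cases e : a = b <;> simp [e, mat_mU, d1]) fun k hk l => by
        by_cases e : k = l
        · subst e; simp [d2 k hk]
        · simp [e, Ne.symm e]).symm
    have d3 : ∀ b, d (j' b) = 1 := fun b => d2 _ fun a => (h a b).symm
    have c' := congrArg mat c.eq
    rw [mat_mul, mat_mul, e] at c'
    have z : ∀ {x : F}, -x = x → x = 0 := fun {x} h =>
      (mul_eq_zero.1 (show 2 * x = 0 by linear_combination -h)).resolve_left h2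
    obtain ⟨a, a', h3, h4, h5⟩ := exists_pair hq p h hcov hup fun a b =>
      ⟨z (by simpa [d1, d3] using (congrFun (congrFun c' (j a)) (j' b)).symm),
        z (by simpa [d1, d3] using congrFun (congrFun c' (j' b)) (j a))⟩
    exact ⟨a, a', fun _ => ⟨h3, h4, by rw [← h5, hu]⟩⟩
  choose a a' ha using dec φ rφ hcz
  choose b b' hb using dec ψ rψ hcz'
  have pw : ∀ s s' : SU 2 F q, s ^ p = 1 → s' ^ p = 1 → (embU hq j s * embU hq j' s') ^ p = 1 :=
    fun s s' h1 h2 => by
      rw [(commute_embU hq j j' h s s').mul_pow, ← map_pow, ← map_pow, h1, h2, map_one, map_one,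
        mul_one]
  have hab : ∀ s ∈ {s | ∃ b, s ∈ S b}, ∀ t ∈ {s | ∃ b, s ∈ S b},
      Commute (a s) (b t) ∧ Commute (a' s) (b' t) := fun s hs t ht =>
    (commute_pair hq h).1 (commute_of_pow hk hm hp4 (pw _ _ (ha s hs).1 (ha s hs).2.1)
      (by rw [(ha s hs).2.2, (hb t ht).2.2]; exact hc s t))
  obtain ⟨s, hs, t, ht, hst⟩ := exists_not_commute hq hgen
  have nc : ∀ (χ : SU 2 F q →* G) (a a' : SU 2 F q → SU 2 F q), Function.Injective χ →
      g (embU hq j (a s) * embU hq j' (a' s)) = χ s → g (embU hq j (a t) * embU hq j' (a' t)) = χ t →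
      ¬ (Commute (a s) (a t) ∧ Commute (a' s) (a' t)) := fun χ a a' hχ h1 h3 h4 => hst (hχ (by
    rw [map_mul, map_mul, ← h1, ← h3]; exact (((commute_pair hq h).2 h4).map g).eq))
  have hgen' : ∀ H : Subgroup (SU 2 F q), {s | ∃ b, s ∈ S b} ⊆ H → H = ⊤ := fun H hH =>
    hgen H fun b s hs => hH ⟨b, hs⟩
  by_cases c : Commute (a s) (a t)
  · exfalso
    have sw : ∀ s s' : SU 2 F q, embU hq j' s' * embU hq j s = embU hq j s * embU hq j' s' :=
      fun s s' => (commute_embU hq j j' h s s').eq.symm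
    obtain ⟨k1, -⟩ := core_aux (g := g) (j := j') (j' := j) (φ := φ) (ψ := ψ) hq p hgen'
      (a := a') (a' := a) (b := b') (b' := b)
      (fun s hs => ⟨(ha s hs).1, by rw [sw, (ha s hs).2.2]⟩)
      (fun s hs => ⟨(hb s hs).2.1, by rw [sw, (hb s hs).2.2]⟩)
      (fun s hs t ht => (hab s hs t ht).symm)
      ⟨s, hs, t, ht, fun c' => nc φ a a' hφ (ha s hs).2.2 (ha t ht).2.2 ⟨c, c'⟩⟩
      ⟨s, hs, t, ht, fun c' => nc ψ b b' hψ (hb s hs).2.2 (hb t ht).2.2 c'.symm⟩
    obtain ⟨u, hu⟩ := k1 hx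
    obtain ⟨v, hv⟩ := k1 hy
    obtain ⟨c1, hc1, -, rfl⟩ := exists_central hk (x := x) hu.symm
    obtain ⟨c2, hc2, -, rfl⟩ := exists_central hk (x := y) hv.symm
    have e : embU hq j' (u * v * u⁻¹ * v⁻¹) = embU hq j (mU hq) := by
      rw [← hz, commutator_central hc1 hc2]
      simp only [map_mul, map_inv]
    have := congrFun (congrFun (congrArg mat e) (j 0)) (j 0)
    rw [mat_embU, mat_embU, embM_apply_left j' _ (h 0), embM_apply j.injective, mat_mU] at this
    exact h2 (by simp at this; linear_combination this)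
  · obtain ⟨k1, k2⟩ := core_aux (g := g) (φ := φ) (ψ := ψ) hq p hgen' (a := a) (a' := a') (b := b)
      (b' := b') (fun s hs => (ha s hs).2) (fun s hs => ⟨(hb s hs).1, (hb s hs).2.2⟩) hab
      ⟨s, hs, t, ht, c⟩ ⟨s, hs, t, ht, nc ψ b b' hψ (hb s hs).2.2 (hb t ht).2.2⟩
    exact ⟨range_eq_of_le' hφ k1, range_eq_of_le' hψ k2⟩

end Core

end Cfsg.Agent.Phan
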