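import Mathlib
import Cfsg.Agent.Phan.Cover
import Cfsg.Agent.Cl.UEich

/-!
# Gluing two hyperplane blocks in dimension at least five, for all `q`
-/

namespace Cfsg.Agent.Phan

open Module Cfsg.Agent.Cl

variable {F : Type*} [Field F] {σ : F →+* F} {q : ℕ}

section Geom

variable {V : Type*} [AddCommGroup V] [Module F V] {B : V →ₗ[F] V →ₛₗ[σ] F} [FiniteDimensional F V]

theorem good_pair (hB : IsHerm B) (hk : 4 ≤ finrank F V) {u : V} (hu : B u u ≠ 0) (v : V) :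
    ∃ z, B z z ≠ 0 ∧ B z u = 0 ∧ B z v = 0 :=
  let ⟨z, h0, h1, h2⟩ := exists_ni_perp_any hB hk hu (pr_perp hu v)
  ⟨z, h0, h1, perp_of_pr h1 h2⟩

theorem good_or_apex (hB : IsHerm B) (hk : 5 ≤ finrank F V) {u v w : V} (hu : B u u ≠ 0)
    (hv : B v v ≠ 0) : Good B u v w ∨
      ∃ x, B x x ≠ 0 ∧ Good B x u v ∧ Good B x v w ∧ Good B u x w := by
  by_cases h : gd B v w ≠ 0
  · exact Or.inl (good_of_five hB hk hv h u).swap'.swap
  push Not at h
  have r0 : B (pr B v w) (pr B v w) = 0 := by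
    have := norm_pr hv w
    rw [h] at this
    exact (mul_eq_zero.1 this).resolve_left hv
  have key : ∀ x, B x x ≠ 0 → B x (pr B v w) ≠ 0 → Good B x v w := fun x hx hr => by
    obtain ⟨z, h0, h1, h2, h3⟩ := good_of_five hB hk hx (v := pr B v w)
      (by simp [gd, r0, hr, mt hB.eq_zero_symm hr]) v
    exact ⟨z, h0, h1, h3, perp_of_pr h3 h2⟩
  by_cases h1 : pr B v w = 0
  · obtain ⟨z, h0, h2, h3⟩ := good_pair hB (by omega) hu v
    exact Or.inl ⟨z, h0, h2, h3, perp_of_pr h3 (by rw [h1, map_zero])⟩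
  by_cases h2 : B (pr B v w) u = 0
  swap
  · exact Or.inl (key u hu (mt hB.eq_zero_symm h2))
  obtain ⟨y, hy⟩ := hB.exists_ne_zero h1
  obtain ⟨x, hx, h3, h4⟩ := exists_ni_not_perp hB r0 (y := pr B u y) (W := P B u)
    (by rwa [pr_right h2]) h2 (pr_perp hu y) (map_one σ)
  have hx0 : B x x ≠ 0 := by rw [h3]; exact one_ne_zero
  have hg : gd B x u ≠ 0 := by rw [gd_of_perp hx]; exact mul_ne_zero hx0 hu
  exact Or.inr ⟨x, hx0, good_of_five hB hk hx0 hg v, key x hx0 (by rw [h4]; exact one_ne_zero),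
    (good_of_five hB hk hx0 hg w).swap⟩

theorem exists_ni_perp_three' (hB : IsHerm B) (hk : 3 ≤ finrank F V) {u : V} (hu : u ≠ 0) :
    ∃ p, B p p ≠ 0 ∧ B p u = 0 := by
  by_cases h : B u u = 0
  · obtain ⟨w, h1, h2⟩ := hB.exists_partner hu h
    obtain ⟨p, hp, h3⟩ := hB.exists_perp_nonisotropic (hB.disjoint_span_pair h h1 h2)
      (by rw [hB.finrank_span_pair h h1 h2]; omega)
    exact ⟨p, h3, hB.eq_zero_symm (mem_uPerp_span_pair.1 hp).1⟩
  · exact exists_ni_perp_one hB (by omega) h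

end Geom

variable {ι : Type*} [Fintype ι] [DecidableEq ι]

/-- Three vectors with a common orthogonal unit vector. -/
def GoodU (σ : F →+* F) (s : Finset ι) (u v w : ι → F) : Prop :=
  ∃ y, Un σ s y ∧ uStd σ ι y u = 0 ∧ uStd σ ι y v = 0 ∧ uStd σ ι y w = 0

theorem goodU_ez (hq : UField σ q) {s : Finset ι} {u v w : s → F} (h : Good (uStd σ s) u v w)
    (a b : F) : GoodU σ s (a • ez s u) (b • ez s v) (ez s w) := by
  obtain ⟨z, h0, h1, h2, h3⟩ := h
  obtain ⟨c, -, hc⟩ := exists_un_smul hq (supp_ez s z) (by rwa [B_ez])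
  exact ⟨_, hc, by simp [B_ez, h1], by simp [B_ez, h2], by simp [B_ez, h3]⟩

theorem goodU_or_apex (hq : UField σ q) {s : Finset ι} (hs : 5 ≤ s.card) {u v w : ι → F}
    (hu : Un σ s u) (hv : Un σ s v) (hw : Un σ s w) : GoodU σ s u v w ∨
      ∃ x, Un σ s x ∧ GoodU σ s x u v ∧ GoodU σ s x v w ∧ GoodU σ s u x w := by
  obtain ⟨u, rfl⟩ := hu.1.exists_ez
  obtain ⟨v, rfl⟩ := hv.1.exists_ez
  obtain ⟨w, rfl⟩ := hw.1.exists_ez
  rcases good_or_apex (hq.isHerm_uStd s) (by simpa using hs) (u := u) (v := v) (w := w)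
    (by rw [← B_ez]; exact hu.ne) (by rw [← B_ez]; exact hv.ne) with h | ⟨x, h0, h1, h2, h3⟩
  · exact Or.inl (by simpa using goodU_ez hq h 1 1)
  · obtain ⟨c, -, hc⟩ := exists_un_smul hq (supp_ez s x) (by rwa [B_ez])
    exact Or.inr ⟨_, hc, by simpa using goodU_ez hq h1 c 1, by simpa using goodU_ez hq h2 c 1,
      by simpa using goodU_ez hq h3 1 c⟩

theorem exists_un_perp (hq : UField σ q) {s : Finset ι} (hs : 4 ≤ s.card) {u v : ι → F}
    (hu : Un σ s u) (hv : Supp s v) : ∃ y, Un σ s y ∧ uStd σ ι y u = 0 ∧ uStd σ ι y v = 0 := by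
  obtain ⟨u, rfl⟩ := hu.1.exists_ez
  obtain ⟨v, rfl⟩ := hv.exists_ez
  obtain ⟨z, h0, h1, h2⟩ := good_pair (hq.isHerm_uStd s) (by simpa using hs) (u := u)
    (by rw [← B_ez]; exact hu.ne) v
  obtain ⟨c, -, hc⟩ := exists_un_smul hq (supp_ez s z) (by rwa [B_ez])
  exact ⟨_, hc, by simp [B_ez, h1], by simp [B_ez, h2]⟩

/-- Transitivity of a block of size at least three on non-zero vectors of given norm. -/
theorem exists_blk3 (hq : UField σ q) {t : Finset ι} (ht : 3 ≤ t.card) {u u' : ι → F}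
    (hu : Supp t u) (hu' : Supp t u') (h0 : u ≠ 0) (h0' : u' ≠ 0)
    (h : uStd σ ι u u = uStd σ ι u' u') : ∃ g ∈ Blk σ t, g u = u' := by
  have hB := hq.isHerm_uStd ι
  set H : Submodule F (ι → F) := Submodule.span F {x | ∃ k ∉ t, x = ev k} with hH
  have hp : ∀ v, Supp t v → ∀ x ∈ H, uStd σ ι x v = 0 := fun v hv =>
    mem_uPerp.1 (mem_uPerp_span.2 (by rintro _ ⟨k, hk, rfl⟩; rw [ev_B, hv k hk, map_zero]))
  have hn : ∀ v, Supp t v → v ∈ H → v = 0 := fun v hv e => funext fun k => by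
    by_cases hk : k ∈ t
    · rw [← B_ev (σ := σ) v]; exact hp _ (supp_ev hk) v e
    · exact hv k hk
  obtain ⟨g, hg, h1, h2⟩ := hB.step' H (u := u) (u' := u') (mt (hn u hu) h0) (mt (hn u' hu') h0')
    (fun x hx => by rw [hp u hu x hx, hp u' hu' x hx]) h
  obtain ⟨x, rfl⟩ := hu.exists_ez
  obtain ⟨p, hp1, hp2⟩ := exists_ni_perp_three' (hq.isHerm_uStd t) (by simpa using ht)
    (u := x) (by rintro rfl; exact h0 (map_zero _))
  obtain ⟨k, hk, h3, -⟩ := hB.exists_USG_of_nonisotropic (p := ez t p) (by rwa [B_ez]) hg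
  refine ⟨k, ⟨hk, fun l hl => ?_⟩, ?_⟩
  · rw [h3 _ (by rw [ev_B, supp_ez t p l hl, map_zero]),
      h1 _ (Submodule.subset_span ⟨l, hl, rfl⟩)]
  · rw [h3 _ (hB.eq_zero_symm (by rwa [B_ez])), h2]

theorem exists_eichler (hq : UField σ q) {t : Finset ι} {r : ι → F} (hr : Supp t r)
    (h0 : uStd σ ι r r = 0) {d : ι} (hd : d ∈ t) (hrd : r d = 0) (β : F) :
    ∃ g ∈ Blk σ t, g r = r ∧ g (ev d) = ev d + β • r := by
  have hB := hq.isHerm_uStd ι
  have e := hB.uEich0 (u := σ β • ev d) h0 (by simp [ev_B, hrd])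
  obtain ⟨c, hc⟩ := hq.invol.exists_trace_eq (a := -uStd σ ι (σ β • ev d) (σ β • ev d))
    (by rw [map_neg, hB.fixed])
  refine ⟨_, ⟨hB.uEich_mem e (s := c) (by rw [hc, neg_add_cancel]), fun k hk => ?_⟩,
    e.apply_self c, ?_⟩
  · rw [e.apply_of_perp c (by rw [ev_B, hr k hk, map_zero])]
    simp [B_ev, ev_ne (show d ≠ k by rintro rfl; exact hk hd)]
  · rw [e.apply_of_perp c (by rw [ev_B, hrd, map_zero])]
    simp [norm_ev, hq.invol.invol]

/-- The normal forms of a vector under a block. -/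
theorem exists_normal (hq : UField σ q) {t : Finset ι} (ht : 3 ≤ t.card) {b c : ι} (hb : b ∈ t)
    (hc : c ∈ t) (hbc : b ≠ c) {r : ι → F} (hr : Supp t r) : r = 0 ∨ ∃ g ∈ Blk σ t,
      (∃ γ : F, γ ≠ 0 ∧ g (γ • ev b) = r) ∨
        ∃ ε : F, ε * σ ε = -1 ∧ g (ev b + ε • ev c) = r := by
  by_cases h0 : r = 0
  · exact Or.inl h0
  right
  by_cases h : uStd σ ι r r = 0
  · obtain ⟨ε, hε⟩ := hq.exists_norm_eq (a := -1) (by simp)
    obtain ⟨g, hg, e⟩ := exists_blk3 hq ht ((supp_ev hb).add ((supp_ev hc).smul ε)) hr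
      (fun e => by simpa [ev_self, ev_ne hbc] using congrFun e b) h0 (by
        simp [h, ev_self, B_ev, ev_ne hbc, ev_ne hbc.symm]
        linear_combination hε)
    exact ⟨g, hg, Or.inr ⟨ε, hε, e⟩⟩
  · obtain ⟨γ, hγ⟩ := hq.exists_norm_eq ((hq.isHerm_uStd ι).fixed r)
    have hn : uStd σ ι (γ • ev b) (γ • ev b) = uStd σ ι r r := by
      rw [norm_smul', norm_ev, mul_one, hγ]
    obtain ⟨g, hg, e⟩ := exists_blk hq (by omega) ((supp_ev hb).smul γ) hr (by rwa [hn]) hn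
    exact ⟨g, hg, Or.inl ⟨γ, by rintro rfl; exact h (by simpa using hγ.symm), e⟩⟩

omit [Fintype ι] in
theorem Supp.split {t : Finset ι} {v : ι → F} (hv : Supp t v) {a : ι} (ha : a ∈ t) :
    ∃ r, Supp (t.erase a) r ∧ v = v a • ev a + r :=
  ⟨v - v a • ev a, Supp.erase (fun k hk => by simp [hv k hk, supp_ev ha k hk]) (by simp [ev_self]),
    by simp⟩

theorem blk_eq_sup' (hq : UField σ q) {t : Finset ι} {z b c d : ι} (hz : z ∈ t) (hb : b ∈ t)
    (hc : c ∈ t) (hd : d ∈ t) (zb : z ≠ b) (zc : z ≠ c) (zd : z ≠ d) (bc : b ≠ c) (bd : b ≠ d)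
    (cd : c ≠ d) : Blk σ t = Blk σ (t.erase z) ⊔ Blk σ (t.erase b) := by
  have hle : Blk σ (t.erase z) ⊔ Blk σ (t.erase b) ≤ Blk σ t :=
    sup_le (Blk_mono (t.erase_subset z)) (Blk_mono (t.erase_subset b))
  refine le_antisymm (fun g hg => ?_) hle
  have hy := (un_ev (σ := σ) hz).map hg
  obtain ⟨r, hr, e⟩ := hy.1.split hz
  have c3 : 3 ≤ (t.erase z).card := Finset.two_lt_card_iff.2
    ⟨b, c, d, by simp [*, zb.symm], by simp [*, zc.symm], by simp [*, zd.symm], bc, bd, cd⟩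
  obtain ⟨k, hk, r', hr', e'⟩ : ∃ k ∈ Blk σ (t.erase z), ∃ r', Supp (t.erase b) r' ∧ k r' = r := by
    have sc : Supp (t.erase b) (ev c : ι → F) := supp_ev (by simp [*, bc.symm])
    have sd : Supp (t.erase b) (ev d : ι → F) := supp_ev (by simp [*, bd.symm])
    rcases exists_normal hq c3 (b := c) (c := d) (by simp [*, zc.symm]) (by simp [*, zd.symm]) cd hr
      with rfl | ⟨k, hk, ⟨γ, -, h⟩ | ⟨ε, -, h⟩⟩
    · exact ⟨1, one_mem _, 0, fun _ _ => rfl, rfl⟩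
    · exact ⟨k, hk, _, sc.smul γ, h⟩
    · exact ⟨k, hk, _, sc.add (sd.smul ε), h⟩
  have sz : Supp (t.erase b) (ev z : ι → F) := supp_ev (by simp [*])
  have e2 : k (g (ev z) z • ev z + r') = g (ev z) := by
    rw [map_add, map_smul, (mem_Blk_erase.1 hk).2, e', ← e]
  obtain ⟨l, hl, e3⟩ := exists_blk hq (t := t.erase b) (Finset.one_lt_card.2
    ⟨z, by simp [*], c, by simp [*, bc.symm], zc⟩) sz ((sz.smul (g (ev z) z)).add hr')
    (by rw [norm_ev]; exact one_ne_zero) (by rw [← Blk.map_B hk (_ + _), e2, hy.2, norm_ev])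
  have m : k * l ∈ Blk σ (t.erase z) ⊔ Blk σ (t.erase b) :=
    mul_mem (Subgroup.mem_sup_left hk) (Subgroup.mem_sup_right hl)
  have : (k * l)⁻¹ * g ∈ Blk σ (t.erase z) := mem_Blk_erase.2 ⟨mul_mem (inv_mem (hle m)) hg, by
    rw [LinearEquiv.mul_apply, ← e2, ← e3, ← LinearEquiv.mul_apply k,
      ← LinearEquiv.mul_apply, inv_mul_cancel]; rfl⟩
  convert mul_mem m (Subgroup.mem_sup_left this) using 1; group

variable {L : Type*} [Group L] {π : L →* ((ι → F) ≃ₗ[F] (ι → F))}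

/-- The data of the gluing step in dimension at least five. -/
structure Glue2 (σ : F →+* F) (π : L →* ((ι → F) ≃ₗ[F] (ι → F))) (A B : Subgroup L)
    (s : Finset ι) (a b c d z : ι) : Prop extends Glue σ π A B s a b z where
  hc : c ∈ s
  hd : d ∈ s
  ac : a ≠ c
  ad : a ≠ d
  bc : b ≠ c
  bd : b ≠ d
  cd : c ≠ d
  cz : c ≠ z
  dz : d ≠ z
  comm3 : ∀ g ∈ A, π g ∈ Blk σ {a, b, c} → ∀ h ∈ B, π h (ev b) = ev b → π h (ev c) = ev c →
    Commute g h

namespace Glue2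

variable {A B : Subgroup L} {s : Finset ι} {a b c d z : ι}

/-- Elements of `B` fixing `x a` are conjugated into `B` by `x`. -/
def Pr (π : L →* ((ι → F) ≃ₗ[F] (ι → F))) (B : Subgroup L) (a : ι) (x : L) : Prop :=
  ∀ h ∈ B, π h (π x (ev a)) = π x (ev a) → x⁻¹ * h * x ∈ B

theorem card5 (H : Glue2 σ π A B s a b c d z) : 5 ≤ s.card := by
  have : ({a, b, c, d, z} : Finset ι).card = 5 := by
    simp [H.ab, H.ac, H.ad, H.az, H.bc, H.bd, H.bz, H.cd, H.cz, H.dz]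
  rw [← this]
  exact Finset.card_le_card (by simp [Finset.insert_subset_iff, H.ha, H.hb, H.hc, H.hd, H.hz])

theorem card3 (H : Glue2 σ π A B s a b c d z) : 3 ≤ ((s.erase z).erase a).card := by
  rw [Finset.card_erase_of_mem (by simp [H.az, H.ha]), Finset.card_erase_of_mem H.hz]
  have := H.card5
  omega

theorem conj_of_mem (H : Glue2 σ π A B s a b c d z) {x h : L} (hx : x ∈ A) (hh : h ∈ A)
    (e : π h (π x (ev a)) = π x (ev a)) : x⁻¹ * h * x ∈ B :=
  H.AB _ (A.mul_mem (A.mul_mem (A.inv_mem hx) hh) hx) (by rw [pi_mul, pi_mul, e, pi_inv_apply])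

theorem pr_of (H : Glue2 σ π A B s a b c d z) {x y δ : L} (hx : x ∈ A) (hy : y ∈ A) (hδ : δ ∈ A)
    (hδ' : π δ (ev a) = ev a) (e : π x (ev a) = π δ (π y (ev a))) (h : Pr π B a y) :
    Pr π B a x := by
  intro g hg e'
  have hδB := H.AB δ hδ hδ'
  have m : x⁻¹ * δ * y ∈ B := H.AB _ (A.mul_mem (A.mul_mem (A.inv_mem hx) hδ) hy)
    (by rw [pi_mul, pi_mul, ← e, pi_inv_apply])
  have := h _ (B.mul_mem (B.mul_mem (B.inv_mem hδB) hg) hδB)
    (by rw [pi_mul, pi_mul, ← e, e', e, pi_inv_apply])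
  convert B.mul_mem (B.mul_mem m this) (B.inv_mem m) using 1; group

theorem pr_zero (H : Glue2 σ π A B s a b c d z) (hq : UField σ q) {x : L} (hx : x ∈ A)
    (hx' : π x ∈ Blk σ {a, b}) {α : F} (e : π x (ev a) = α • ev a) : Pr π B a x := by
  intro g hg _
  have := H.lB.induction (blk_eq_sup' hq (z := z) (b := b) (c := c) (d := d)
    (by simp [H.az.symm, H.hz]) (by simp [H.ab.symm, H.hb]) (by simp [H.ac.symm, H.hc])
    (by simp [H.ad.symm, H.hd]) H.bz.symm H.cz.symm H.dz.symm H.bc H.bd H.cd)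
    (H := B.comap (MulAut.conj x⁻¹).toMonoidHom) (fun g hg h => ?_) (fun g hg h => ?_) hg
  · simpa using this
  · simpa using H.conj_of_mem hx (H.BA hg (mem_Blk_erase.1 h).2) (by rw [e, map_smul, H.fixB hg])
  · have := (H.comm x hx hx' g hg (mem_Blk_erase.1 h).2).eq
    have : x⁻¹ * g * x = g := by rw [mul_assoc, ← this]; group
    simpa [this] using hg

theorem pr_ni (H : Glue2 σ π A B s a b c d z) {x : L} (hx : x ∈ A) (hx' : π x ∈ Blk σ {a, b})
    {α γ : F} (hγ : γ ≠ 0) (e : π x (ev a) = α • ev a + γ • ev b) : Pr π B a x := by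
  intro g hg e'
  rw [e, map_add, map_smul, map_smul, H.fixB hg, add_right_inj] at e'
  have := (H.comm x hx hx' g hg (smul_right_injective _ hγ e')).eq
  rwa [mul_assoc, ← this, inv_mul_cancel_left]

theorem pr_iso (H : Glue2 σ π A B s a b c d z) (hq : UField σ q) {x : L} (hx : x ∈ A)
    (hx' : π x ∈ Blk σ {a, b, c}) {α ε : F} (hε : ε * σ ε = -1)
    (e : π x (ev a) = α • ev a + (ev b + ε • ev c)) : Pr π B a x := by
  intro g hg e'
  set r : ι → F := ev b + ε • ev c with hr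
  have fr : ∀ k ∈ B, π k r = r → π k (π x (ev a)) = π x (ev a) := fun k hk h => by
    rw [e, map_add, map_smul, H.fixB hk, h]
  have gr : π g r = r := by
    rwa [e, map_add, map_smul, H.fixB hg, add_right_inj] at e'
  have rz : r z = 0 := by simp [hr, ev_ne H.bz.symm, ev_ne H.cz.symm]
  have r0 : uStd σ ι r r = 0 := by
    simp [hr, ev_self, B_ev, ev_ne H.bc, ev_ne H.bc.symm]
    linear_combination hε
  have hgB := H.lB.mem g hg
  have hy := (un_ev (σ := σ) (s := s.erase a) (k := z) (by simp [H.az.symm, H.hz])).map hgB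
  have yr : uStd σ ι (π g (ev z)) r = 0 := by rw [← gr, Blk.map_B hgB, ev_B, rz, map_zero]
  set y := π g (ev z) with hyd
  have yr' : y b + σ ε * y c = 0 := by simpa [hr, B_ev] using yr
  let T := ((s.erase a).erase b).erase c
  have sr : Supp (s.erase a) r :=
    (supp_ev (by simp [H.ab.symm, H.hb])).add ((supp_ev (by simp [H.ac.symm, H.hc])).smul ε)
  have sw : Supp T (y + (-y b) • r) := by
    refine ((hy.1.add (sr.smul _)).erase ?_).erase ?_
    · simp [hr, ev_self, ev_ne H.bc]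
    · simp [hr, ev_self, ev_ne H.bc.symm]
      linear_combination (-ε) * yr' + y c * hε
  have dT : d ∈ T := by simp [T, H.cd.symm, H.bd.symm, H.ad.symm, H.hd]
  have zT : z ∈ T := by simp [T, H.cz.symm, H.bz.symm, H.az.symm, H.hz]
  have cT : 2 ≤ T.card := Finset.one_lt_card.2 ⟨d, dT, z, zT, H.dz⟩
  obtain ⟨k1, hk1, e1⟩ := exists_blk hq cT (supp_ev dT) sw (by rw [norm_ev]; exact one_ne_zero)
    (by simp [norm_ev, hy.2, yr, (hq.isHerm_uStd ι).eq_zero_symm yr, r0])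
  obtain ⟨k2, hk2, e2⟩ := exists_blk hq cT (supp_ev zT) (supp_ev dT)
    (by rw [norm_ev]; exact one_ne_zero) (by rw [norm_ev, norm_ev])
  obtain ⟨E, hE, e3, e4⟩ := exists_eichler hq (t := (s.erase a).erase z) (sr.erase rz) r0 (d := d)
    (by simp [H.dz, H.ad.symm, H.hd]) (by simp [hr, ev_ne H.bd.symm, ev_ne H.cd.symm]) (y b)
  have lift : ∀ k ∈ Blk σ T, ∃ k' ∈ B, π k' = k ∧ π k' r = r ∧ x⁻¹ * k' * x ∈ B := fun k hk => by
    have h1 := mem_Blk_erase.1 hk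
    have h2 := mem_Blk_erase.1 h1.1
    obtain ⟨k', hk', rfl⟩ := H.lB.surj k h2.1
    refine ⟨k', hk', rfl, by rw [hr, map_add, map_smul, h1.2, h2.2], ?_⟩
    rwa [mul_assoc, ← (H.comm3 x hx hx' k' hk' h2.2 h1.2).eq, inv_mul_cancel_left]
  obtain ⟨k1, b1, rfl, r1, c1⟩ := lift k1 hk1
  obtain ⟨k2, b2, rfl, r2, c2⟩ := lift k2 hk2
  obtain ⟨E, b3, rfl⟩ := H.lB.surj E (mem_Blk_erase.1 hE).1
  have c3 := H.conj_of_mem hx (H.BA b3 (mem_Blk_erase.1 hE).2) (fr E b3 e3)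
  have b4 : (k1 * E * k2)⁻¹ * g ∈ B := B.mul_mem (B.inv_mem (B.mul_mem (B.mul_mem b1 b3) b2)) hg
  have e5 : π (k1 * E * k2) (ev z) = y := by
    rw [pi_mul, pi_mul, e2, e4, map_add, map_smul, e1, r1]; simp
  have e6 : π (k1 * E * k2) r = r := by rw [pi_mul, pi_mul, r2, e3, r1]
  have c4 := H.conj_of_mem hx (H.BA b4 (by rw [pi_mul, ← hyd, ← e5, pi_inv_apply]))
    (fr _ b4 (by rw [pi_mul, gr]; conv_lhs => rw [← e6, pi_inv_apply]))
  convert B.mul_mem (B.mul_mem (B.mul_mem c1 c3) c2) c4 using 1; group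

theorem un_A (H : Glue2 σ π A B s a b c d z) {x : L} (hx : x ∈ A) :
    Un σ (s.erase z) (π x (ev a)) := (un_ev (by simp [H.az, H.ha])).map (H.lA.mem x hx)

theorem exists_A (H : Glue2 σ π A B s a b c d z) (hq : UField σ q) {t : Finset ι}
    (ht : t ⊆ s.erase z) (h2 : 2 ≤ t.card) (ha : a ∈ t) {w : ι → F} (hw : Un σ t w) :
    ∃ x ∈ A, π x ∈ Blk σ t ∧ π x (ev a) = w := by
  obtain ⟨k, hk, e⟩ := exists_blk hq h2 (supp_ev ha) hw.1 (by rw [norm_ev]; exact one_ne_zero)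
    (by rw [norm_ev, hw.2])
  obtain ⟨x, hx, rfl⟩ := H.lA.surj k (Blk_mono ht hk)
  exact ⟨x, hx, hk, e⟩

theorem pr_all (H : Glue2 σ π A B s a b c d z) (hq : UField σ q) {x : L} (hx : x ∈ A) :
    Pr π B a x := by
  have hv := H.un_A hx
  obtain ⟨r, hr, e⟩ := hv.1.split (a := a) (by simp [H.az, H.ha])
  generalize π x (ev a) a = α at e
  have sa : Supp {a, b} (ev a : ι → F) := supp_ev (by simp)
  have h2 : 2 ≤ ({a, b} : Finset ι).card := by rw [Finset.card_pair H.ab]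
  rcases exists_normal hq H.card3 (b := b) (c := c) (by simp [H.ab.symm, H.bz, H.hb])
    (by simp [H.ac.symm, H.cz, H.hc]) H.bc hr with rfl | ⟨k, hk, h⟩
  · rw [add_zero] at e
    obtain ⟨y, hy, hy', e'⟩ := H.exists_A hq H.pair_sub h2 (by simp) (w := α • ev a)
      ⟨sa.smul α, by rw [← e, hv.2]⟩
    exact H.pr_of hx hy A.one_mem (by simp) (by simp [e, e']) (H.pr_zero hq hy hy' e')
  obtain ⟨δ, hδ, rfl⟩ := H.lA.surj k (mem_Blk_erase.1 hk).1
  have hδ' := (mem_Blk_erase.1 hk).2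
  have key : ∀ r', π δ r' = r → π x (ev a) = π δ (α • ev a + r') ∧
      uStd σ ι (α • ev a + r') (α • ev a + r') = 1 := fun r' h => by
    have : π x (ev a) = π δ (α • ev a + r') := by rw [map_add, map_smul, hδ', h, e]
    exact ⟨this, by rw [← Blk.map_B hk, ← this, hv.2]⟩
  rcases h with ⟨γ, hγ, h⟩ | ⟨ε, hε, h⟩
  · obtain ⟨y, hy, hy', e'⟩ := H.exists_A hq H.pair_sub h2 (by simp)
      ⟨(sa.smul α).add ((supp_ev (by simp)).smul γ), (key _ h).2⟩
    exact H.pr_of hx hy hδ hδ' (by rw [e', (key _ h).1]) (H.pr_ni hy hy' hγ e')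
  · obtain ⟨y, hy, hy', e'⟩ := H.exists_A hq (t := {a, b, c})
      (by simp [Finset.insert_subset_iff, H.az, H.bz, H.cz, H.ha, H.hb, H.hc])
      (Finset.one_lt_card.2 ⟨a, by simp, b, by simp, H.ab⟩) (by simp)
      ⟨((supp_ev (by simp)).smul α).add ((supp_ev (by simp)).add ((supp_ev (by simp)).smul ε)),
        (key _ h).2⟩
    exact H.pr_of hx hy hδ hδ' (by rw [e', (key _ h).1]) (H.pr_iso hq hy hy' hε e')

theorem unique_aux (H : Glue2 σ π A B s a b c d z) (hq : UField σ q) {x y g : L} (hx : x ∈ A)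
    (hy : y ∈ A) (hg : g ∈ B) (e : π x (ev a) = π g (π y (ev a))) : x⁻¹ * g * y ∈ B := by
  obtain ⟨r, hr, e1⟩ := (H.un_A hx).1.split (a := a) (by simp [H.az, H.ha])
  obtain ⟨r', hr', e2⟩ := (H.un_A hy).1.split (a := a) (by simp [H.az, H.ha])
  have hgB := H.lB.mem g hg
  have e3 : π x (ev a) a = π y (ev a) a := by rw [e, Blk.apply_of_notMem hgB _ (by simp)]
  rw [e3] at e1
  generalize π y (ev a) a = α at e1 e2
  have e4 : π g r' = r := by
    rw [e1, e2, map_add, map_smul, H.fixB hg, add_right_inj] at e; exact e.symm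
  obtain ⟨k, hk, e5⟩ : ∃ k ∈ Blk σ ((s.erase z).erase a), k r' = r := by
    by_cases h0 : r' = 0
    · exact ⟨1, one_mem _, by rw [← e4, h0, map_zero, map_zero]⟩
    · exact exists_blk3 hq H.card3 hr' hr h0 (by rw [← e4]; simpa using h0)
        (by rw [← e4, Blk.map_B hgB])
  obtain ⟨δ, hδ, rfl⟩ := H.lA.surj k (mem_Blk_erase.1 hk).1
  have hδ' := (mem_Blk_erase.1 hk).2
  have e6 : π δ (π y (ev a)) = π x (ev a) := by rw [e2, map_add, map_smul, hδ', e5, e1]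
  have m1 : x⁻¹ * δ * y ∈ B := H.AB _ (A.mul_mem (A.mul_mem (A.inv_mem hx) hδ) hy)
    (by rw [pi_mul, pi_mul, e6, pi_inv_apply])
  have m2 := H.pr_all hq hy _ (B.mul_mem (B.inv_mem (H.AB δ hδ hδ')) hg)
    (by rw [pi_mul, ← e, ← e6, pi_inv_apply])
  convert B.mul_mem m1 m2 using 1; group

/-- The double coset relation. -/
def R (A B : Subgroup L) (g h : L) : Prop := ∃ b1 ∈ B, ∃ x ∈ A, ∃ b2 ∈ B, h = g * b1 * x * b2

theorem R.left {g h : L} (r : R A B g h) (x : L) : R A B (x * g) (x * h) := by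
  obtain ⟨b1, h1, u, h2, b2, h4, rfl⟩ := r
  exact ⟨b1, h1, u, h2, b2, h4, by group⟩

theorem R.symm {g h : L} (r : R A B g h) : R A B h g := by
  obtain ⟨b1, h1, u, h2, b2, h4, rfl⟩ := r
  exact ⟨_, B.inv_mem h4, _, A.inv_mem h2, _, B.inv_mem h1, by group⟩

theorem R.mem {g h : L} (r : R A B g h) (hg : g ∈ A ⊔ B) : h ∈ A ⊔ B := by
  obtain ⟨b1, h1, u, h2, b2, h4, rfl⟩ := r
  exact Subgroup.mul_mem _ (Subgroup.mul_mem _ (Subgroup.mul_mem _ hg (Subgroup.mem_sup_right h1))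
    (Subgroup.mem_sup_left h2)) (Subgroup.mem_sup_right h4)

theorem unique (H : Glue2 σ π A B s a b c d z) (hq : UField σ q) {g h h' : L} (r : R A B g h)
    (r' : R A B g h') (e : π h (ev a) = π h' (ev a)) : h⁻¹ * h' ∈ B := by
  obtain ⟨b1, h1, u, h2, b2, h5, rfl⟩ := r
  obtain ⟨c1, k1, v, k2, c2, k5, rfl⟩ := r'
  simp only [pi_mul, H.fixB h5, H.fixB k5, EmbeddingLike.apply_eq_iff_eq] at e
  have := H.unique_aux hq h2 k2 (B.mul_mem (B.inv_mem h1) k1) (by rw [pi_mul, ← e, pi_inv_apply])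
  convert B.mul_mem (B.mul_mem (B.inv_mem h5) this) k5 using 1; group

theorem un_sup (H : Glue2 σ π A B s a b c d z) {g : L} (hg : g ∈ A ⊔ B) : Un σ s (π g (ev a)) :=
  (un_ev H.ha).map (H.mem_sup hg)

theorem exists_frame (H : Glue2 σ π A B s a b c d z) (hq : UField σ q) {g : L} (hg : g ∈ A ⊔ B)
    {y : ι → F} (hy : Un σ s y) (p : uStd σ ι y (π g (ev a)) = 0) : ∃ k ∈ B,
      ∀ w, Un σ s w → uStd σ ι y w = 0 → ∃ x ∈ A, π (g * k * x) (ev a) = w := by
  have hi := H.mem_sup (Subgroup.inv_mem _ hg)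
  have hy' := hy.map hi
  obtain ⟨k, hk, e⟩ := exists_blk hq (t := s.erase a) (by have := H.card_erase H.ha; omega)
    (supp_ev (k := z) (by simp [H.az.symm, H.hz])) (hy'.1.erase (a := a) (by
      rwa [← Blk.map_B hi, pi_inv_apply, B_ev] at p))
    (by rw [norm_ev]; exact one_ne_zero) (by rw [norm_ev, hy'.2])
  obtain ⟨k, hkB, rfl⟩ := H.lB.surj k hk
  refine ⟨k, hkB, fun w hw p' => ?_⟩
  have hj := H.mem_sup (Subgroup.inv_mem _ (Subgroup.mul_mem _ hg (Subgroup.mem_sup_right hkB)))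
  have ey : π (g * k)⁻¹ y = ev z := by rw [mul_inv_rev, pi_mul, ← e, pi_inv_apply]
  rw [← Blk.map_B hj, ey, ev_B, map_eq_zero] at p'
  obtain ⟨x, hx, -, e'⟩ := H.exists_A hq subset_rfl (by have := H.card_erase H.hz; omega)
    (by simp [H.az, H.ha]) ⟨(hw.map hj).1.erase p', (hw.map hj).2⟩
  exact ⟨x, hx, by rw [pi_mul, e', pi_apply_inv]⟩

theorem exists_R (H : Glue2 σ π A B s a b c d z) (hq : UField σ q) {w : ι → F} (hw : Un σ s w) :
    ∃ g, R A B 1 g ∧ π g (ev a) = w := by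
  obtain ⟨y, hy, p1, p2⟩ := exists_un_perp hq H.card (un_ev H.ha) hw.1
  obtain ⟨k, hk, h⟩ := H.exists_frame hq (Subgroup.one_mem _) hy (by simpa using p1)
  obtain ⟨x, hx, e⟩ := h w hw p2
  exact ⟨_, ⟨k, hk, x, hx, 1, B.one_mem, (mul_one _).symm⟩, e⟩

theorem triangle (H : Glue2 σ π A B s a b c d z) (hq : UField σ q) {g h k : L} (hg : g ∈ A ⊔ B)
    (r1 : R A B g h) (r2 : R A B h k) (p : GoodU σ s (π g (ev a)) (π h (ev a)) (π k (ev a))) :
    R A B g k := by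
  obtain ⟨y, hy, p1, p2, p3⟩ := p
  obtain ⟨l, hl, hx⟩ := H.exists_frame hq hg hy p1
  obtain ⟨x1, hx1, e1⟩ := hx _ (H.un_sup (r1.mem hg)) p2
  obtain ⟨x2, hx2, e2⟩ := hx _ (H.un_sup (r2.mem (r1.mem hg))) p3
  have m1 := H.unique hq r1 ⟨l, hl, x1, hx1, 1, B.one_mem, (mul_one _).symm⟩ e1.symm
  have m2 := H.unique hq (h := g * l * x2)
    ⟨_, m1, x1⁻¹ * x2, A.mul_mem (A.inv_mem hx1) hx2, 1, B.one_mem, by group⟩ r2 e2
  exact ⟨l, hl, x2, hx2, _, m2, by group⟩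

/-- **Gluing.** -/
theorem lift (H : Glue2 σ π A B s a b c d z) (hq : UField σ q) : Lift σ π (A ⊔ B) s := by
  have o : (1 : L) ∈ A ⊔ B := Subgroup.one_mem _
  have tr : ∀ h k, R A B 1 h → R A B h k → R A B 1 k := fun h k r1 r2 => by
    rcases goodU_or_apex hq H.card5 (H.un_sup o) (H.un_sup (r1.mem o))
      (H.un_sup (r2.mem (r1.mem o))) with p | ⟨x, hx, p1, p2, p3⟩
    · exact H.triangle hq o r1 r2 p
    · obtain ⟨l, r, rfl⟩ := H.exists_R hq hx
      exact H.triangle hq o r (H.triangle hq (r.mem o) (H.triangle hq (r.mem o) r.symm r1 p1) r2 p2)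
        p3
  have r1 : R A B 1 1 := ⟨1, B.one_mem, 1, A.one_mem, 1, B.one_mem, by group⟩
  let S : Subgroup L :=
    { carrier := {g | R A B 1 g}
      one_mem' := r1
      mul_mem' := fun {g h} hg hh => tr g _ hg (by simpa using R.left hh g)
      inv_mem' := fun {g} hg => by simpa using (R.symm hg).left g⁻¹ }
  have hS : A ⊔ B ≤ S := sup_le
    (fun x hx => ⟨1, B.one_mem, x, hx, 1, B.one_mem, by group⟩)
    (fun x hx => ⟨1, B.one_mem, 1, A.one_mem, x, hx, by group⟩)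
  refine ⟨fun g hg => H.mem_sup hg, fun k hk => ?_, fun g hg e => H.lB.inj g ?_ e⟩
  · obtain ⟨g, r, e⟩ := H.exists_R hq ((un_ev H.ha).map hk)
    have hg := r.mem o
    obtain ⟨l, hl, e'⟩ := H.lB.surj ((π g)⁻¹ * k) (mem_Blk_erase.2
      ⟨Subgroup.mul_mem _ (Subgroup.inv_mem _ (H.mem_sup hg)) hk, by
        rw [LinearEquiv.mul_apply, ← e, ← map_inv, pi_inv_apply]⟩)
    exact ⟨g * l, Subgroup.mul_mem _ hg (Subgroup.mem_sup_right hl), by rw [map_mul, e']; simp⟩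
  · simpa using H.unique hq r1 (hS hg) (by rw [e, map_one])

end Glue2

end Cfsg.Agent.Phan
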