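import Mathlib
import Cfsg.Agent.Phan.Chain
import Cfsg.Agent.Phan.Glue2

/-!
# `SU_N` as the universal completion of its coordinate `SU₃`'s and `SU₄`'s
-/

namespace Cfsg.Agent.Phan

open Matrix Cfsg.Agent.Cl

variable {F : Type*} [Field F] {σ : F →+* F} {q N : ℕ}

theorem lift_chain2 {L : Type*} [Group L] {π : L →* ((Fin N → F) ≃ₗ[F] (Fin N → F))}
    (hq : UField σ q) (Γ : ℕ → Subgroup L)
    (h3 : ∀ i, i + 3 ≤ N → Lift σ π (Γ i) (Iv N i (i + 3)))
    (h4 : ∀ i, i + 4 ≤ N → Lift σ π (Jn Γ i (i + 3)) (Iv N i (i + 4)))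
    (c2 : ∀ i k, i + 2 ≤ k → k + 3 ≤ N → ∀ x ∈ Γ i, π x ∈ Blk σ (Iv N i (i + 2)) →
      ∀ y ∈ Γ k, Commute x y)
    (c3 : ∀ i k, i + 3 ≤ k → k + 3 ≤ N → ∀ x ∈ Γ i, ∀ y ∈ Γ k, Commute x y)
    (c3' : ∀ i, i + 5 ≤ N → ∀ x ∈ Γ i, ∀ y ∈ Γ (i + 2), π y ∈ Blk σ (Iv N (i + 3) (i + 5)) →
      Commute x y)
    (l : ℕ) : ∀ i, i + (l + 3) ≤ N → Lift σ π (Jn Γ i (i + (l + 2))) (Iv N i (i + (l + 3))) := by
  induction l using Nat.strong_induction_on with
  | _ l ih =>
  intro i hi
  obtain rfl | rfl | hl : l = 0 ∨ l = 1 ∨ 2 ≤ l := by omega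
  · rw [Jn_two]; exact h3 i hi
  · exact h4 i hi
  obtain ⟨m, rfl⟩ : ∃ m, l = m + 2 := ⟨l - 2, by omega⟩
  have lA := ih (m + 1) (by omega) i (by omega)
  have lB := ih (m + 1) (by omega) (i + 1) (by omega)
  have lC := ih m (by omega) (i + 1) (by omega)
  have lE := ih m (by omega) (i + 2) (by omega)
  have cen : ∀ {g h : L} {j j' : ℕ}, h ∈ Jn Γ j j' →
      (∀ k, j ≤ k → k + 2 ≤ j' → ∀ y ∈ Γ k, Commute g y) → Commute g h := fun {g h j j'} hh hc => by
    have : Jn Γ j j' ≤ Subgroup.centralizer {g} := Jn_le fun k k1 k2 y hy =>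
      Subgroup.mem_centralizer_singleton_iff.2 (hc k k1 k2 y hy).symm
    exact (Subgroup.mem_centralizer_singleton_iff.1 (this hh)).symm
  have mE : ∀ h ∈ Jn Γ (i + 1) (i + 1 + (m + 1 + 2)), π h (ev ⟨i + 1, by omega⟩) = ev ⟨i + 1, by omega⟩ →
      h ∈ Jn Γ (i + 2) (i + 2 + (m + 2)) := fun h hh hh' => by
    refine lB.mem_of_le lE (Jn_mono Γ (by omega) (by omega)) hh ?_
    convert mem_Blk_erase.2 ⟨lB.mem h hh, hh'⟩ using 2
    ext x; simp only [Finset.mem_erase, mem_Iv, Ne, Fin.ext_iff]; omega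
  have H : Glue2 σ π (Jn Γ i (i + (m + 1 + 2))) (Jn Γ (i + 1) (i + 1 + (m + 1 + 2)))
      (Iv N i (i + (m + 2 + 3))) ⟨i, by omega⟩ ⟨i + 1, by omega⟩ ⟨i + 2, by omega⟩ ⟨i + 3, by omega⟩
      ⟨i + (m + 4), by omega⟩ :=
    { ha := by simp [mem_Iv]
      hb := by simp [mem_Iv]
      hc := by simp [mem_Iv]
      hd := by simp [mem_Iv]
      hz := by simp [mem_Iv]
      ab := by simp [Fin.ext_iff]
      ac := by simp [Fin.ext_iff]
      ad := by simp [Fin.ext_iff]
      az := by simp [Fin.ext_iff]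
      bc := by simp [Fin.ext_iff]
      bd := by simp [Fin.ext_iff]
      bz := by simp [Fin.ext_iff]
      cd := by simp [Fin.ext_iff]
      cz := by simp [Fin.ext_iff]
      dz := by simp [Fin.ext_iff]
      card := by rw [card_Iv hi]; omega
      lA := by
        convert lA using 1
        ext x; simp only [Finset.mem_erase, mem_Iv, Ne, Fin.ext_iff]; omega
      lB := by
        convert lB using 1
        ext x; simp only [Finset.mem_erase, mem_Iv, Ne, Fin.ext_iff]; omega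
      AB := fun g hg h => by
        refine Jn_mono Γ le_rfl (by omega) (lA.mem_of_le lC (Jn_mono Γ (by omega) (by omega)) hg ?_)
        convert mem_Blk_erase.2 ⟨lA.mem g hg, h⟩ using 2
        ext x; simp only [Finset.mem_erase, mem_Iv, Ne, Fin.ext_iff]; omega
      comm := fun g hg hg' h hh hh' => by
        have m0 : π g ∈ Blk σ (Iv N i (i + 2)) := by
          convert hg' using 2
          ext x; simp only [Finset.mem_insert, Finset.mem_singleton, mem_Iv, Fin.ext_iff]; omega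
        have m1 : g ∈ Γ i := lA.mem_of_le (h3 i (by omega)) (le_Jn Γ le_rfl (by omega)) hg
          (Blk_mono (fun x => by simp only [mem_Iv]; omega) m0)
        exact cen (mE h hh hh') fun k k1 k2 => c2 i k k1 (by omega) g m1 m0
      comm3 := fun g hg hg' h hh hh' hh'' => by
        have m1 : g ∈ Γ i := by
          refine lA.mem_of_le (h3 i (by omega)) (le_Jn Γ le_rfl (by omega)) hg ?_
          convert hg' using 2
          ext x; simp only [Finset.mem_insert, Finset.mem_singleton, mem_Iv, Fin.ext_iff]; omega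
        have m2 := mE h hh hh'
        have m3 : π h ∈ Blk σ (Iv N (i + 3) (i + (m + 5))) := by
          convert mem_Blk_erase.2 ⟨lE.mem h m2, hh''⟩ using 2
          ext x; simp only [Finset.mem_erase, mem_Iv, Ne, Fin.ext_iff]; omega
        rcases m with _ | m
        · rw [Jn_two] at m2
          exact c3' i hi g m1 h m2 m3
        · refine cen (lE.mem_of_le (ih m (by omega) (i + 3) (by omega))
            (Jn_mono Γ (by omega) (by omega)) m2 (by convert m3 using 3; omega))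
            fun k k1 k2 => c3 i k k1 (by omega) g m1 }
  have := H.lift hq
  convert this using 1
  refine le_antisymm (Jn_le fun k k1 k2 => ?_)
    (sup_le (Jn_mono Γ le_rfl (by omega)) (Jn_mono Γ (by omega) (by omega)))
  by_cases e : k = i
  · exact le_sup_of_le_left (le_Jn Γ k1 (by omega))
  · exact le_sup_of_le_right (le_Jn Γ (by omega) (by omega))

variable {G : Type*} [Group G]

theorem exists_hom_chain2 (hq : UField σ q) (hN : 3 ≤ N) (ρ : ℕ → SU 3 F q →* G)
    (h4 : ∀ i, i + 4 ≤ N → ∃ f : SU 4 F q →* G, f.comp (embU hq (iv 0 (by omega))) = ρ i ∧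
      f.comp (embU hq (iv 1 (by omega))) = ρ (i + 1))
    (c2 : ∀ i k, i + 2 ≤ k → k + 3 ≤ N → ∀ s t, Commute (ρ i (upU hq s)) (ρ k t))
    (c3 : ∀ i k, i + 3 ≤ k → k + 3 ≤ N → ∀ s t, Commute (ρ i s) (ρ k t))
    (c3' : ∀ i, i + 5 ≤ N → ∀ s t, Commute (ρ i s) (ρ (i + 2) (loU hq t))) :
    ∃ f : SU N F q →* G, ∀ i, i + 3 ≤ N → (ρ i).range ≤ f.range := by
  let Γ : ℕ → Subgroup (SU N F q × G) := fun i => if h : i + 3 ≤ N then gr hq (iv i h) (ρ i) else ⊥
  have hΓ : ∀ i (h : i + 3 ≤ N), Γ i = gr hq (iv i h) (ρ i) := fun i h => dif_pos h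
  have l3 : ∀ i, i + 3 ≤ N → Lift σ (piG F q N G) (Γ i) (Iv N i (i + 3)) := fun i h => by
    rw [hΓ i h, ← map_iv h]; exact lift_gr hq _ _
  have sub : ∀ i j (h : i + 3 ≤ N) (hj : j + 2 ≤ 3), ∀ x ∈ Γ i,
      piG F q N G x ∈ Blk σ (Iv N (i + j) (i + j + 2)) →
        ∃ s, x = (embU hq (iv (i + j) (by omega)) s, ρ i (embU hq (iv j hj) s)) := by
    intro i j h hj x hx hx'
    have l := lift_gr hq ((iv j hj).trans (iv i h)) ((ρ i).comp (embU hq (iv j hj)))
    obtain ⟨s, rfl⟩ := (l3 i h).mem_of_le l (by rw [hΓ i h]; exact gr_le hq _ _ _) hx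
      (by rwa [iv_trans, map_iv])
    exact ⟨s, by rw [← iv_trans h hj]; rfl⟩
  have cm : ∀ {k m i j : ℕ} (h : i + k ≤ N) (h' : j + m ≤ N), i + k ≤ j → ∀ s t,
      Commute (embU hq (iv i h) s) (embU hq (iv j h') t) := fun {k m i j} h h' e s t =>
    commute_embU hq _ _ (fun a b e => by
      have : i + a.val = j + b.val := congrArg Fin.val e
      omega) s t
  have main := lift_chain2 hq Γ l3
    (fun i hi => by
      obtain ⟨f, f0, f1⟩ := h4 i hi
      have le : Jn Γ i (i + 3) ≤ gr hq (iv i hi) f := Jn_le fun j j1 j2 => by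
        obtain e | rfl : j = i ∨ j = i + 1 := by omega
        · have := gr_le hq (iv i hi) (iv (k := 3) 0 (by omega)) f
          rw [f0, iv_trans] at this
          rwa [e, hΓ _ (by omega)]
        · have := gr_le hq (iv i hi) (iv (k := 3) 1 (by omega)) f
          rw [f1, iv_trans] at this
          rwa [hΓ _ (by omega)]
      have l := lift_gr hq (iv i hi) f
      rw [map_iv hi] at l
      refine ⟨fun g hg => l.mem g (le hg), fun k hk => ?_, fun g hg => l.inj g (le hg)⟩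
      obtain ⟨g, hg, rfl⟩ := l.surj k hk
      refine ⟨g, l.induction (blk_eq_sup' hq (z := ⟨i, by omega⟩) (b := ⟨i + 3, by omega⟩)
        (c := ⟨i + 1, by omega⟩) (d := ⟨i + 2, by omega⟩) (by simp [mem_Iv]) (by simp [mem_Iv])
        (by simp [mem_Iv]) (by simp [mem_Iv]) (by simp [Fin.ext_iff]) (by simp [Fin.ext_iff])
        (by simp [Fin.ext_iff]) (by simp [Fin.ext_iff]) (by simp [Fin.ext_iff])
        (by simp [Fin.ext_iff])) (fun g hg h' => ?_) (fun g hg h' => ?_) hg, rfl⟩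
      · refine le_Jn Γ (k := i + 1) (by omega) (by omega) (l.mem_of_le (l3 (i + 1) (by omega))
          ((le_Jn Γ (by omega) (by omega)).trans le) hg ?_)
        convert h' using 2
        ext x; simp only [Finset.mem_erase, mem_Iv, Ne, Fin.ext_iff]; omega
      · refine le_Jn Γ (k := i) (by omega) (by omega) (l.mem_of_le (l3 i (by omega))
          ((le_Jn Γ (by omega) (by omega)).trans le) hg ?_)
        convert h' using 2
        ext x; simp only [Finset.mem_erase, mem_Iv, Ne, Fin.ext_iff]; omega)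
    (fun i k h1 h2 x hx hx' y hy => by
      obtain ⟨s, rfl⟩ := sub i 0 (by omega) (by omega) x hx hx'
      rw [hΓ k h2] at hy
      obtain ⟨t, rfl⟩ := hy
      exact Prod.ext (cm _ _ h1 s t).eq (c2 i k h1 h2 s t).eq)
    (fun i k h1 h2 x hx y hy => by
      rw [hΓ i (by omega)] at hx
      rw [hΓ k h2] at hy
      obtain ⟨s, rfl⟩ := hx
      obtain ⟨t, rfl⟩ := hy
      exact Prod.ext (cm _ _ h1 s t).eq (c3 i k h1 h2 s t).eq)
    (fun i hi x hx y hy hy' => by
      obtain ⟨t, rfl⟩ := sub (i + 2) 1 (by omega) (by omega) y hy hy'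
      rw [hΓ i (by omega)] at hx
      obtain ⟨s, rfl⟩ := hx
      exact Prod.ext (cm _ _ le_rfl s t).eq (c3' i hi s t).eq)
    (N - 3) 0 (by omega)
  rw [show 0 + (N - 3 + 3) = N by omega,
    show Iv N 0 N = Finset.univ by ext x; simp [mem_Iv]] at main
  obtain ⟨f, hf⟩ := main.exists_hom hq
  refine ⟨f, fun i hi => ?_⟩
  rintro _ ⟨s, rfl⟩
  exact ⟨_, hf _ (le_Jn Γ (k := i) (by omega) (by omega) (by rw [hΓ i hi]; exact ⟨s, rfl⟩))⟩

end Cfsg.Agent.Phan
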