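import Mathlib
import Cfsg.Agent.Phan.Four3

/-!
# The group `SU₃(2)`: generators and rigidity
-/

namespace Cfsg.Agent.Phan

open Matrix Cfsg.Agent.Cl

variable {F : Type*} [Field F] {σ : F →+* F} {n : ℕ} {G : Type*} [Group G]

theorem char_two (hq : UField σ 2) : CharP F 2 :=
  CharTwo.of_one_ne_zero_of_two_eq_zero one_ne_zero (by simpa using hq.cast_eq_zero)

theorem norm_of_ne (hq : UField σ 2) {a : F} (ha : a ≠ 0) : a * σ a = 1 := by
  have := hq.finite
  have := Fintype.ofFinite F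
  have h := FiniteField.pow_card_sub_one_eq_one a ha
  rw [← Nat.card_eq_fintype_card, hq.card] at h
  rw [hq.pow, ← pow_succ']; exact h

theorem exists_omega (hq : UField σ 2) : ∃ ω : F, ω ^ 2 + ω + 1 = 0 := by
  obtain ⟨θ, h1, h2⟩ := hq.invol.exists_norm_one_ne
  refine ⟨θ, mul_left_cancel₀ (a := θ - 1) (fun e => h2 ?_) ?_⟩
  · rw [sub_eq_zero.1 e, map_one]
  · rw [hq.pow] at h1; linear_combination h1

theorem norm_omega (hq : UField σ 2) {ω : F} (hω : ω ^ 2 + ω + 1 = 0) : ω * σ ω = 1 := by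
  rw [hq.pow]; linear_combination (ω - 1) * hω

/-- The Hadamard element of `SU₃(2)`. -/
def hdU (hq : UField σ 2) {ω : F} (hω : ω ^ 2 + ω + 1 = 0) : SU 3 F 2 :=
  mkU hq !![1, 1, 1; 1, ω, ω ^ 2; 1, ω ^ 2, ω]
    (by have := char_two hq; simp [det_fin_three]; grind)
    (by
      have := char_two hq
      ext i j
      fin_cases i <;> fin_cases j <;> simp [mul_apply, Fin.sum_univ_three, hq.pow] <;> grind)

theorem mat_hdU (hq : UField σ 2) {ω : F} (hω : ω ^ 2 + ω + 1 = 0) :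
    mat (hdU hq hω) = !![1, 1, 1; 1, ω, ω ^ 2; 1, ω ^ 2, ω] := rfl

theorem hdU_sq (hq : UField σ 2) {ω : F} (hω : ω ^ 2 + ω + 1 = 0) :
    hdU hq hω * hdU hq hω = loU hq (w2 hq) := by
  have := char_two hq
  apply su_ext
  rw [mat_mul, mat_hdU, mat_loU, mat_w2]
  ext i j
  fin_cases i <;> fin_cases j <;> simp [mul_apply, Fin.sum_univ_three] <;> grind

theorem w2_sq (hq : UField σ 2) : w2 hq * w2 hq = 1 := by
  have := char_two hq
  apply su_ext
  rw [mat_mul, mat_w2, mat_one]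
  ext i j
  fin_cases i <;> fin_cases j <;> simp [CharTwo.neg_eq]

theorem hdU_pow (hq : UField σ 2) {ω : F} (hω : ω ^ 2 + ω + 1 = 0) : hdU hq hω ^ 4 = 1 := by
  rw [show 4 = 2 * 2 from rfl, pow_mul, pow_two (hdU hq hω), hdU_sq, pow_two, ← map_mul, w2_sq,
    map_one]

theorem hdU_mul_dg (hq : UField σ 2) {ω : F} (hω : ω ^ 2 + ω + 1 = 0) :
    hdU hq hω * loU hq (dg2 hq ω (norm_omega hq hω)) =
      loU hq (w2 hq) * upU hq (w2 hq) * hdU hq hω := by
  have := char_two hq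
  apply su_ext
  simp only [mat_mul, mat_hdU, mat_loU, mat_upU, mat_w2, mat_dg2]
  ext i j
  fin_cases i <;> fin_cases j <;> simp [mul_apply, Fin.sum_univ_three, hq.pow] <;> grind

theorem hdU_mul_w (hq : UField σ 2) {ω : F} (hω : ω ^ 2 + ω + 1 = 0) :
    hdU hq hω * (upU hq (w2 hq) * loU hq (w2 hq)) =
      loU hq (dg2 hq ω (norm_omega hq hω)) * hdU hq hω := by
  have := char_two hq
  apply su_ext
  simp only [mat_mul, mat_hdU, mat_loU, mat_upU, mat_w2, mat_dg2]
  ext i j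
  fin_cases i <;> fin_cases j <;> simp [mul_apply, Fin.sum_univ_three, hq.pow] <;> grind

theorem norm_vec3 {a : F} (h : a * σ a = 1) (i : Fin 3) : ![a, 1, 1] i * σ (![a, 1, 1] i) = 1 := by
  fin_cases i <;> simp [h]

/-- **Generators of `SU₃(2)`.** -/
theorem su3_two_gen (hq : UField σ 2) {ω : F} (hω : ω ^ 2 + ω + 1 = 0) {K : Subgroup (SU 3 F 2)}
    (h1 : ∀ s, upU hq s ∈ K) (h2 : ∀ s, loU hq s ∈ K)
    (h3 : ∀ ζ hζ, dgU hq ![ζ, 1, 1] (norm_vec3 hζ) (hdU hq hω) ∈ K) : K = ⊤ := by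
  have := char_two hq
  rw [eq_top_iff]
  rintro g -
  have hN := congrFun (congrFun (mat_unitary hq g) 0) 0
  simp only [mul_apply, Fin.sum_univ_three, transpose_apply, map_apply, one_apply_eq] at hN
  suffices h : ∀ a b c : F, a * σ a + b * σ b + c * σ c = 1 →
      ∃ k ∈ K, ∀ i, mat k i 0 = ![a, b, c] i by
    obtain ⟨k, hk, e⟩ := h _ _ _ hN
    obtain ⟨s, hs⟩ : k⁻¹ * g ∈ (loU hq).range := mem_range_of_fix hq _ fun x hx => by
      have : x = 0 := by
        fin_cases x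
        · rfl
        · exact absurd rfl (hx 0)
        · exact absurd rfl (hx 1)
      have e' : mat g *ᵥ ev 0 = mat k *ᵥ ev 0 := by ext i; fin_cases i <;> simp [ev, e]
      rw [this, mat_mul, ← mulVec_mulVec, e', mulVec_mulVec, ← mat_mul, inv_mul_cancel, mat_one,
        one_mulVec]
    rw [← mul_inv_cancel_left k g, ← hs]
    exact mul_mem hk (h2 s)
  clear hN
  intro a b c hN
  have inv := hq.invol.invol
  by_cases hc : c = 0
  · refine ⟨_, h1 (su2 hq a (-σ b)
      (by rw [hc, zero_mul] at hN; simp only [map_neg, inv]; linear_combination hN)), fun i => ?_⟩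
    rw [mat_upU, mat_su2]
    fin_cases i <;> simp [inv, hc]
  by_cases hb : b = 0
  · refine ⟨_, mul_mem (h2 (w2 hq)) (h1 (su2 hq a (σ c)
      (by rw [hb, zero_mul] at hN; simp only [inv]; linear_combination hN))), fun i => ?_⟩
    rw [mat_mul, mat_upU, mat_loU, mat_su2, mat_w2]
    fin_cases i <;> simp [inv, hb, mul_apply, Fin.sum_univ_three]
  have nb := norm_of_ne hq hb
  have nc := norm_of_ne hq hc
  have na : a * σ a = 1 := by rw [nb, nc] at hN; grind
  have nζ : a * b * c * σ (a * b * c) = 1 := by simp only [map_mul]; grind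
  refine ⟨_, mul_mem (mul_mem (h1 (dg2 hq _ na)) (h2 (dg2 hq (a * b * (a * b * c))
    (by simp only [map_mul]; grind)))) (h3 _ nζ), fun i => ?_⟩
  rw [mat_mul, mat_mul, mat_upU, mat_loU, mat_dg2, mat_dg2]
  simp only [hq.pow] at na nb nc
  fin_cases i <;> simp [mul_apply, Fin.sum_univ_three, mat_dgU, mat_hdU, hq.pow] <;>
    (clear * - na nb nc; grind)

theorem eq_one_of_pow_four [CharP F 2] {c : F} (h : c ^ 4 = 1) : c = 1 :=
  eq_one_of_pow_char 2 (eq_one_of_pow_char 2 (r := c ^ 2) (by rw [← pow_mul, h]))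

theorem rigid_aux (hq : UField σ 2) {ω : F} (hω : ω ^ 2 + ω + 1 = 0) {ρ₀ ρ : SU 3 F 2 →* G}
    (h₀ : Function.Injective ρ₀) (hr : ρ.range ≤ ρ₀.range)
    (h1 : ∀ s, ρ (upU hq s) = ρ₀ (upU hq s)) (h2 : ∀ s, ρ (loU hq s) = ρ₀ (loU hq s)) :
    ρ (hdU hq hω) = ρ₀ (hdU hq hω) := by
  have := char_two hq
  obtain ⟨y, hy⟩ := hr ⟨hdU hq hω, rfl⟩
  have key : ∀ m m', ρ m = ρ₀ m → ρ m' = ρ₀ m' → hdU hq hω * m = m' * hdU hq hω →
      mat ((hdU hq hω)⁻¹ * y) * mat m = mat m * mat ((hdU hq hω)⁻¹ * y) := fun m m' e e' c => by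
    have : y * m = m' * y := h₀ (by rw [map_mul, map_mul, hy, ← e, ← e', ← map_mul, c, map_mul])
    rw [← mat_mul, ← mat_mul, mul_assoc, this, ← mul_assoc, ← mul_assoc,
      show (hdU hq hω)⁻¹ * m' = m * (hdU hq hω)⁻¹ by
        rw [inv_mul_eq_iff_eq_mul, ← mul_assoc, c, mul_inv_cancel_right]]
  have k1 := key _ _ (h2 _) (by rw [map_mul, map_mul, h1, h2]) (hdU_mul_dg hq hω)
  have k2 := key _ _ (by rw [map_mul, map_mul, h1, h2]) (h2 _) (hdU_mul_w hq hω)
  have e : mat ((hdU hq hω)⁻¹ * y) = mat ((hdU hq hω)⁻¹ * y) 0 0 • 1 := by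
    generalize mat ((hdU hq hω)⁻¹ * y) = X at k1 k2
    rw [mat_loU, mat_dg2] at k1
    rw [mat_mul, mat_loU, mat_upU, mat_w2] at k2
    have a := fun i j => congrFun (congrFun k1 i) j
    have b := fun i j => congrFun (congrFun k2 i) j
    simp only [Fin.forall_fin_succ, mul_apply, Fin.sum_univ_three, hq.pow] at a b
    simp at a b
    ext i j
    fin_cases i <;> fin_cases j <;> simp <;> grind
  generalize mat ((hdU hq hω)⁻¹ * y) 0 0 = c at e
  have e1 : mat y = c • mat (hdU hq hω) := by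
    rw [← mul_inv_cancel_left (hdU hq hω) y, mat_mul, e, mul_smul_comm, mul_one]
  have e2 : y ^ 4 = 1 := h₀ (by rw [map_pow, hy, ← map_pow, hdU_pow, map_one, map_one])
  have e3 := congrFun (congrFun (congrArg mat e2) 0) 0
  rw [mat_pow, e1, smul_pow, ← mat_pow, hdU_pow, mat_one] at e3
  rw [← hy, su_ext (g := y) (e1.trans (by rw [eq_one_of_pow_four (c := c) (by simpa using e3),
    one_smul]))]

/-- **Rigidity**: an embedding of `SU₃(2)` is determined by its image and its restriction to the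
standard pair. -/
theorem rigid (hq : UField σ 2) {ρ₀ ρ : SU 3 F 2 →* G}
    (h₀ : Function.Injective ρ₀) (hr : ρ.range ≤ ρ₀.range)
    (h1 : ∀ s, ρ (upU hq s) = ρ₀ (upU hq s)) (h2 : ∀ s, ρ (loU hq s) = ρ₀ (loU hq s)) :
    ρ = ρ₀ := by
  obtain ⟨ω, hω⟩ := exists_omega hq
  have := su3_two_gen hq hω (K := ρ.eqLocus ρ₀) h1 h2 fun ζ hζ =>
    rigid_aux hq hω (ρ₀ := ρ₀.comp (dgU hq _ (norm_vec3 hζ)).toMonoidHom)
      (ρ := ρ.comp (dgU hq _ (norm_vec3 hζ)).toMonoidHom) (h₀.comp (MulEquiv.injective _))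
      (by
        rintro _ ⟨x, rfl⟩
        obtain ⟨y, hy⟩ := hr ⟨_, rfl⟩
        exact ⟨(dgU hq _ (norm_vec3 hζ)).symm y, by simpa using hy⟩)
      (fun s => by simpa [dgU_embU] using h1 _) (fun s => by simpa [dgU_embU] using h2 _)
  exact MonoidHom.ext fun g => this.ge (Subgroup.mem_top g)

/-- A subgroup of `SU₃(2)` containing all `2`-elements is everything. -/
theorem su3_two_eq_top (hq : UField σ 2) {K : Subgroup (SU 3 F 2)} (h : ∀ x, x ^ 4 = 1 → x ∈ K) :
    K = ⊤ := by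
  have := char_two hq
  obtain ⟨ω, hω⟩ := exists_omega hq
  obtain ⟨S, hS, hgen⟩ := exists_su2_gens hq 2
  have key : ∀ φ : SU 2 F 2 →* SU 3 F 2, ∀ s, φ s ∈ K := fun φ s =>
    (hgen (K.comap φ) fun b x hx => h _ (by
      rw [← map_pow, show 4 = 2 * 2 from rfl, pow_mul, (hS b x hx).1, one_pow, map_one])).ge
      (Subgroup.mem_top s)
  exact su3_two_gen hq hω (key _) (key _) fun ζ hζ => h _ (by rw [← map_pow, hdU_pow, map_one])

theorem su2_two_eq_top (hq : UField σ 2) {K : Subgroup (SU 2 F 2)} (h : ∀ x, x ^ 4 = 1 → x ∈ K) :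
    K = ⊤ := by
  have := char_two hq
  obtain ⟨S, hS, hgen⟩ := exists_su2_gens hq 2
  exact hgen K fun b x hx => h _ (by
    rw [show 4 = 2 * 2 from rfl, pow_mul, (hS b x hx).1, one_pow])

/-- A `2`-element commuting with a diagonal matrix fixes the simple eigenvectors. -/
theorem mem_fixV_of_commute [CharP F 2] {q : ℕ} {x D : SU n F q} {d : Fin n → F}
    (hD : mat D = diagonal d) (hc : Commute x D) (hx : x ^ 4 = 1) {k : Fin n}
    (hk : ∀ j, j ≠ k → d j ≠ d k) : x ∈ fixV (ev k) := by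
  have c := congrArg mat hc.eq
  rw [mat_mul, mat_mul, hD] at c
  have a : ∀ i j, d i ≠ d j → mat x i j = 0 := fun i j h => by
    have := congrFun (congrFun c i) j
    rw [mul_diagonal, diagonal_mul] at this
    exact mul_left_cancel₀ (sub_ne_zero.2 h) (by linear_combination -this)
  have a3 : mat x k k = 1 := eq_one_of_pow_four (by
    rw [← diag_pow_entry fun j hj => a k j (hk j hj).symm, ← mat_pow, hx, mat_one, one_apply_eq])
  change mat x *ᵥ ev k = ev k
  ext j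
  by_cases e : j = k
  · simp [ev, e, a3]
  · simp [ev, e, a j k (hk j e)]

end Cfsg.Agent.Phan
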