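import Mathlib
import Cfsg.Agent.Phan.Two

/-!
# Images of `SU₄(2)` generated by two standard pairs
-/

namespace Cfsg.Agent.Phan

open Matrix Cfsg.Agent.Cl

variable {F : Type*} [Field F] {σ : F →+* F} {n : ℕ} {G : Type*} [Group G]

/-- Weights modulo `3`. -/
abbrev W3 := ZMod 3 × ZMod 3 × ZMod 3

/-- A weight and its images under the three simple reflections. -/
def stepW (l : List W3) : List W3 :=
  l ++ l.map (fun w => (w.1 + w.1, w.1 + w.2.1, w.2.2)) ++
    l.map (fun w => (w.1 + w.2.1, w.2.1 + w.2.1, w.2.1 + w.2.2)) ++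
    l.map (fun w => (w.1, w.2.1 + w.2.2, w.2.2 + w.2.2))

theorem stepW_cases : ∀ u : W3, u.1 ≠ 0 → 5 ≤ (stepW (stepW (stepW [u]))).dedup.length ∨
    ∃ x : ZMod 3, x ≠ 0 ∧ ∀ i : Fin 4,
      ![(x, 0, 0), (-x, x, 0), (0, -x, x), (0, 0, -x)] i ∈ stepW (stepW (stepW [u])) := by
  decide +kernel

theorem exists_perm_weights (w : Fin 4 → W3)
    (h1 : ∀ i, ∃ j, w j = ((w i).1 + (w i).1, (w i).1 + (w i).2.1, (w i).2.2))
    (h2 : ∀ i, ∃ j, w j = ((w i).1 + (w i).2.1, (w i).2.1 + (w i).2.1, (w i).2.1 + (w i).2.2))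
    (h3 : ∀ i, ∃ j, w j = ((w i).1, (w i).2.1 + (w i).2.2, (w i).2.2 + (w i).2.2))
    (h0 : ∃ i, (w i).1 ≠ 0) : ∃ (π : Equiv.Perm (Fin 4)) (x : ZMod 3), x ≠ 0 ∧
      ∀ i, w (π i) = ![(x, 0, 0), (-x, x, 0), (0, -x, x), (0, 0, -x)] i := by
  have st : ∀ l : List W3, (∀ u ∈ l, ∃ j, w j = u) → ∀ u ∈ stepW l, ∃ j, w j = u := by
    intro l hl u hu
    simp only [stepW, List.mem_append, List.mem_map] at hu
    rcases hu with ((hu | ⟨v, hv, rfl⟩) | ⟨v, hv, rfl⟩) | ⟨v, hv, rfl⟩
    · exact hl u hu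
    · obtain ⟨i, rfl⟩ := hl v hv; exact h1 i
    · obtain ⟨i, rfl⟩ := hl v hv; exact h2 i
    · obtain ⟨i, rfl⟩ := hl v hv; exact h3 i
  obtain ⟨i, hi⟩ := h0
  have hs := st _ (st _ (st [w i] (by simp)))
  rcases stepW_cases _ hi with h | ⟨x, hx, h⟩
  · rw [← List.card_toFinset] at h
    have := Finset.card_le_card (t := Finset.univ.image w) fun u hu => by
      simpa using hs u (List.mem_toFinset.1 hu)
    have := (this.trans Finset.card_image_le)
    simp at this
    omega
  · choose j hj using fun i => hs _ (h i)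
    refine ⟨Equiv.ofBijective j (Finite.injective_iff_bijective.1 fun a b e => ?_), x, hx, hj⟩
    have := (hj a).symm.trans (e ▸ hj b)
    clear * - this hx
    revert x a b
    decide

theorem exists_row {q : ℕ} (x : SU n F q) (i : Fin n) : ∃ j, mat x i j ≠ 0 := by
  by_contra! h
  exact one_ne_zero ((su_det x).symm.trans (det_eq_zero_of_row_eq_zero i h))

theorem entry_rel {q : ℕ} {x D D' : SU n F q} {d d' : Fin n → F} (hD : mat D = diagonal d)
    (hD' : mat D' = diagonal d') (h : x * D = D' * x) {i j : Fin n} (hx : mat x i j ≠ 0) :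
    d j = d' i := by
  have := congrFun (congrFun (congrArg mat h) i) j
  rw [mat_mul, mat_mul, hD, hD', mul_diagonal, diagonal_mul, mul_comm] at this
  exact mul_right_cancel₀ hx this

section Rel

variable {q : ℕ} (hq : UField σ q) {a : F} (ha : a * σ a = 1)

theorem upw_mul_lo : upU hq (w2 hq) * loU hq (dg2 hq a ha) =
    upU hq (dg2 hq a ha) * loU hq (dg2 hq a ha) * upU hq (w2 hq) := by
  apply su_ext
  simp only [mat_mul, mat_loU, mat_upU, mat_w2, mat_dg2]
  ext i j
  fin_cases i <;> fin_cases j <;> simp [mul_apply, Fin.sum_univ_three, mul_comm (σ a), ha]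

theorem low_mul_up : loU hq (w2 hq) * upU hq (dg2 hq a ha) =
    upU hq (dg2 hq a ha) * loU hq (dg2 hq a ha) * loU hq (w2 hq) := by
  apply su_ext
  simp only [mat_mul, mat_loU, mat_upU, mat_w2, mat_dg2]
  ext i j
  fin_cases i <;> fin_cases j <;> simp [mul_apply, Fin.sum_univ_three, mul_comm (σ a), ha]

theorem commute_up_lo_dg : Commute (upU hq (dg2 hq a ha)) (loU hq (dg2 hq a ha)) := by
  apply su_ext
  simp only [mat_mul, mat_loU, mat_upU, mat_dg2]
  ext i j
  fin_cases i <;> fin_cases j <;> simp [mul_apply, Fin.sum_univ_three, mul_comm (σ a)]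

end Rel

section Rel2

variable (hq : UField σ 2) {a : F} (ha : a * σ a = 1)

theorem w_mul_dg : w2 hq * dg2 hq a ha = dg2 hq a ha * dg2 hq a ha * w2 hq := by
  apply su_ext
  simp only [mat_mul, mat_w2, mat_dg2]
  rw [hq.pow] at ha
  ext i j
  fin_cases i <;> fin_cases j <;> simp [mul_apply, Fin.sum_univ_two, hq.pow] <;> grind

theorem dg_cube : dg2 hq a ha ^ (2 + 1) = 1 := by
  apply su_ext
  simp only [pow_succ, pow_zero, one_mul, mat_mul, mat_dg2, mat_one]
  rw [hq.pow] at ha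
  ext i j
  fin_cases i <;> fin_cases j <;> simp [mul_apply, Fin.sum_univ_two, hq.pow] <;> grind

theorem commute_cen (g : SU 3 F 2) :
    Commute g (upU hq (dg2 hq a ha) * loU hq (dg2 hq a ha) * loU hq (dg2 hq a ha)) := by
  have : mat (upU hq (dg2 hq a ha) * loU hq (dg2 hq a ha) * loU hq (dg2 hq a ha)) = a • 1 := by
    simp only [mat_mul, mat_loU, mat_upU, mat_dg2]
    rw [hq.pow] at ha
    ext i j
    fin_cases i <;> fin_cases j <;> simp [mul_apply, Fin.sum_univ_three, hq.pow] <;> grind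
  exact su_ext (by rw [mat_mul, mat_mul _ g, this]; simp)

end Rel2

theorem core_two (hq : UField σ 2) {ρ ρ' : SU 3 F 2 →* SU 4 F 2}
    (hρ : Function.Injective (ρ.comp (upU hq))) (e : ρ'.comp (upU hq) = ρ.comp (loU hq))
    (hc : ∀ s t, Commute (ρ (upU hq s)) (ρ' (loU hq t))) :
    ∃ θ : SU 4 F 2 ≃* SU 4 F 2, (∀ g, θ (ρ g) ∈ fixV (ev 3)) ∧ (∀ g, θ (ρ' g) ∈ fixV (ev 0)) ∧
      (∀ s, θ (ρ (upU hq s)) ∈ fixV (ev 2)) ∧ ∀ s, θ (ρ' (loU hq s)) ∈ fixV (ev 1) := by
  have := char_two hq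
  have e' : ∀ s, ρ' (upU hq s) = ρ (loU hq s) := DFunLike.congr_fun e
  obtain ⟨ω, hω⟩ := exists_primitiveRoot hq
  have nω : ω * σ ω = 1 := by rw [hq.norm_eq_pow, hω.pow_eq_one]
  let D := dg2 hq ω nω
  let χ := AddChar.zmodChar 3 hω.pow_eq_one
  have χi : Function.Injective χ := fun a b h => ZMod.val_injective 3
    (hω.pow_inj (ZMod.val_lt a) (ZMod.val_lt b) h)
  have c01 : Commute (ρ (upU hq D)) (ρ (loU hq D)) := (commute_up_lo_dg hq nω).map ρ
  have c12 : Commute (ρ (loU hq D)) (ρ' (loU hq D)) := e' D ▸ (commute_up_lo_dg hq nω).map ρ'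
  obtain ⟨U, hU, hd⟩ := exists_unitary_diag hq ![ρ (upU hq D), ρ (loU hq D), ρ' (loU hq D)]
    (fun i j => by
      fin_cases i <;> fin_cases j
      exacts [Commute.refl _, c01, hc _ _, c01.symm, Commute.refl _, c12, (hc _ _).symm, c12.symm,
        Commute.refl _])
    (fun i => by fin_cases i <;> simp [← map_pow, D, dg_cube])
  have hd' : ∀ i, ∃ m : Fin 4 → ZMod 3, mat (cjU hq U hU
      (![ρ (upU hq D), ρ (loU hq D), ρ' (loU hq D)] i)) = diagonal fun k => χ (m k) := fun i => by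
    obtain ⟨d, hd⟩ := hd i
    generalize cjU hq U hU _ = y at hd ⊢
    have : ∀ k, ∃ m, χ m = d k := fun k => by
      have h := congrFun (congrFun (mat_unitary hq y) k) k
      rw [hd, diagonal_transpose, diagonal_map (map_zero σ), diagonal_mul_diagonal, diagonal_apply_eq,
        one_apply_eq, hq.norm_eq_pow] at h
      obtain ⟨m, hm, h⟩ := hω.eq_pow_of_pow_eq_one h
      exact ⟨m, by rw [AddChar.zmodChar_apply', h]⟩
    choose m hm using this
    exact ⟨m, by rw [hd]; simp only [hm]⟩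
  obtain ⟨a, ha⟩ := hd' 0
  obtain ⟨b, hb⟩ := hd' 1
  obtain ⟨c, hc'⟩ := hd' 2
  simp only [cons_val_zero, cons_val_one, cons_val] at ha hb hc'
  set θ := cjU hq U hU
  have mu : ∀ {x y : SU 4 F 2} {a b : Fin 4 → ZMod 3}, mat x = diagonal (fun k => χ (a k)) →
      mat y = diagonal (fun k => χ (b k)) → mat (x * y) = diagonal fun k => χ (a k + b k) :=
    fun h h' => by rw [mat_mul, h, h', diagonal_mul_diagonal]; simp only [χ.map_add_eq_mul]
  obtain ⟨π, x, hx, hπ⟩ := exists_perm_weights (fun k => (a k, b k, c k))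
    (fun i => by
      obtain ⟨j, hj⟩ := exists_row (θ (ρ (upU hq (w2 hq)))) i
      refine ⟨j, Prod.ext (χi (entry_rel ha (mu ha ha) ?_ hj))
        (Prod.ext (χi (entry_rel hb (mu ha hb) ?_ hj)) (χi (entry_rel hc' hc' ?_ hj)))⟩
      · simp only [← map_mul, D, w_mul_dg]
      · simp only [← map_mul, D, upw_mul_lo]
      · exact ((hc _ _).map θ).eq)
    (fun i => by
      obtain ⟨j, hj⟩ := exists_row (θ (ρ (loU hq (w2 hq)))) i
      refine ⟨j, Prod.ext (χi (entry_rel ha (mu ha hb) ?_ hj))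
        (Prod.ext (χi (entry_rel hb (mu hb hb) ?_ hj)) (χi (entry_rel hc' (mu hb hc') ?_ hj)))⟩
      · simp only [← map_mul, D, low_mul_up]
      · simp only [← map_mul, D, w_mul_dg]
      · simp only [← e', ← map_mul, D, upw_mul_lo])
    (fun i => by
      obtain ⟨j, hj⟩ := exists_row (θ (ρ' (loU hq (w2 hq)))) i
      refine ⟨j, Prod.ext (χi (entry_rel ha ha ?_ hj))
        (Prod.ext (χi (entry_rel hb (mu hb hc') ?_ hj)) (χi (entry_rel hc' (mu hc' hc') ?_ hj)))⟩
      · exact ((hc _ _).map θ).eq.symm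
      · simp only [← e', ← map_mul, D, low_mul_up]
      · simp only [← map_mul, D, w_mul_dg])
    (by
      by_contra! h
      have h1 : θ (ρ (upU hq D)) = 1 := su_ext (by
        rw [ha, mat_one]; simp [show ∀ i, a i = 0 from h])
      have h2 : D = 1 := hρ (by simpa using h1)
      have h3 := congrFun (congrFun (congrArg mat h2) 0) 0
      exact hω.ne_one (by omega) (by simpa [D, mat_dg2, mat_one] using h3))
  have rx : ∀ {y : SU 4 F 2} {m : Fin 4 → ZMod 3}, mat y = diagonal (fun k => χ (m k)) →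
      mat (rxU hq π y) = diagonal fun k => χ (m (π k)) := fun h => by
    ext i j; rw [mat_rxU, h]; simp [diagonal_apply]
  have p1 : ∀ i, a (π i) = ![x, -x, 0, 0] i := fun i => by
    rw [show a (π i) = _ from congrArg (·.1) (hπ i)]; fin_cases i <;> rfl
  have p2 : ∀ i, b (π i) = ![0, x, -x, 0] i := fun i => by
    rw [show b (π i) = _ from congrArg (·.2.1) (hπ i)]; fin_cases i <;> rfl
  have p3 : ∀ i, c (π i) = ![0, 0, x, -x] i := fun i => by
    rw [show c (π i) = _ from congrArg (·.2.2) (hπ i)]; fin_cases i <;> rfl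
  let θ' := (θ.trans (rxU hq π)).toMonoidHom
  refine ⟨θ.trans (rxU hq π), fun g => ?_, fun g => ?_, fun s => ?_, fun s => ?_⟩
  · refine (su3_two_eq_top hq (K := (fixV (ev 3)).comap (θ'.comp ρ)) fun y hy =>
      mem_fixV_of_commute (rx (mu (mu ha hb) hb)) ?_ (by rw [← map_pow, hy, map_one])
        fun j hj h => ?_).ge (Subgroup.mem_top g)
    · simp only [← map_mul]
      exact (commute_cen hq nω y).map (θ'.comp ρ)
    · have := χi h
      simp only [p1, p2] at this
      clear * - this hx hj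
      revert x j
      decide
  · refine (su3_two_eq_top hq (K := (fixV (ev 0)).comap (θ'.comp ρ')) fun y hy =>
      mem_fixV_of_commute (rx (mu (mu hb hc') hc')) ?_ (by rw [← map_pow, hy, map_one])
        fun j hj h => ?_).ge (Subgroup.mem_top g)
    · simp only [← e', ← map_mul]
      exact (commute_cen hq nω y).map (θ'.comp ρ')
    · have := χi h
      simp only [p2, p3] at this
      clear * - this hx hj
      revert x j
      decide
  · refine (su2_two_eq_top hq (K := (fixV (ev 2)).comap (θ'.comp (ρ.comp (upU hq)))) fun y hy =>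
      mem_fixV_of_commute (rx hc') ((hc y D).map θ') (by simp only [← map_pow, hy, map_one])
        fun j hj h => ?_).ge (Subgroup.mem_top s)
    have := χi h
    simp only [p3] at this
    clear * - this hx hj
    revert x j
    decide
  · refine (su2_two_eq_top hq (K := (fixV (ev 1)).comap (θ'.comp (ρ'.comp (loU hq)))) fun y hy =>
      mem_fixV_of_commute (rx ha) ((hc D y).symm.map θ') (by simp only [← map_pow, hy, map_one])
        fun j hj h => ?_).ge (Subgroup.mem_top s)
    have := χi h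
    simp only [p1] at this
    clear * - this hx hj
    revert x j
    decide

theorem su4_two_injective (hq : UField σ 2) {g : SU 4 F 2 →* G} {x : SU 4 F 2} (hx : g x ≠ 1) :
    Function.Injective g := (injective_iff_map_eq_one g).2 fun c hc => by
  have := char_two hq
  have h1 := ker_le_center hq le_rfl hx c hc
  obtain ⟨a, ha⟩ := (hq.mem_center_SU_iff (by omega)).1 h1
  have ha' : mat c = a • 1 := ha
  have h2 := congrFun (congrFun (congrArg mat (center_pow hq (by omega) c h1)) 0) 0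
  rw [mat_pow, ha', smul_pow, one_pow, mat_one] at h2
  exact su_ext (by rw [ha', eq_one_of_pow_four (c := a) (by simpa using h2), one_smul, mat_one])

theorem mem_range_iv {q k : ℕ} (hq : UField σ q) {i : ℕ} (hi : i + k ≤ n) {g : SU n F q}
    (h : ∀ x : Fin n, x.val < i ∨ i + k ≤ x.val → g ∈ fixV (ev x)) :
    g ∈ (embU hq (iv i hi)).range := mem_range_of_fix hq _ fun x hx => h x (by
  by_contra! h'
  exact hx ⟨x - i, by omega⟩ (Fin.ext (by change x.val = i + (x - i); omega)))

/-- Two coherent standard pairs inside an image of `SU₄(2)` are the coordinate ones. -/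
theorem four_two (hq : UField σ 2) {ρ ρ' : SU 3 F 2 →* G} {A B C V V' : Subgroup G}
    (h : StdU hq ρ A B V) (h' : StdU hq ρ' B C V') (e : ρ'.comp (upU hq) = ρ.comp (loU hq))
    (hc : ∀ x ∈ A, ∀ y ∈ C, x * y = y * x) (g : SU 4 F 2 →* G) (hg : g.range = V ⊔ V') :
    ∃ f : SU 4 F 2 →* G, f.comp (embU hq (iv 0 (by omega))) = ρ ∧
      f.comp (embU hq (iv 1 (by omega))) = ρ' := by
  have := hq.finite
  have e' : ∀ s, ρ' (upU hq s) = ρ (loU hq s) := DFunLike.congr_fun e
  have r : ∀ x, ρ x ∈ g.range := fun x => hg ▸ Subgroup.mem_sup_left (h.rV.le ⟨x, rfl⟩)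
  have r' : ∀ x, ρ' x ∈ g.range := fun x => hg ▸ Subgroup.mem_sup_right (h'.rV.le ⟨x, rfl⟩)
  have hi : Function.Injective g := by
    obtain ⟨x, hx⟩ := r (upU hq (w2 hq))
    refine su4_two_injective hq (x := x) fun h1 => ?_
    have h2 : w2 hq = 1 := h.inj_up (by simpa [hx] using h1)
    simpa [mat_w2, mat_one] using congrFun (congrFun (congrArg mat h2) 0) 0
  let ψ := (MonoidHom.ofInjective hi).symm.toMonoidHom
  have hψ : ∀ y : g.range, g (ψ y) = y := MonoidHom.apply_ofInjective_symm hi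
  let τ := ψ.comp (ρ.codRestrict _ r)
  let τ' := ψ.comp (ρ'.codRestrict _ r')
  have t : ∀ x, g (τ x) = ρ x := fun x => hψ _
  have t' : ∀ x, g (τ' x) = ρ' x := fun x => hψ _
  obtain ⟨θ, k1, k2, k3, k4⟩ := core_two hq (ρ := τ) (ρ' := τ')
    (fun a b hab => h.inj_up (by simpa only [MonoidHom.comp_apply, t] using congrArg g hab))
    (MonoidHom.ext fun s => hi ((t' _).trans ((e' s).trans (t _).symm)))
    (fun s u => hi (by rw [map_mul, map_mul, t, t']; exact hc _ (h.up_mem s) _ (h'.lo_mem u)))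
  let f := g.comp θ.symm.toMonoidHom
  have fi : Function.Injective f := hi.comp θ.symm.injective
  have ft : ∀ x, f (θ x) = g x := fun x => by simp [f]
  have key : ∀ {m k i : ℕ} (hi : i + k ≤ 4) (φ : SU m F 2 →* G) (φ' : SU m F 2 →* SU 4 F 2),
      (∀ s, g (φ' s) = φ s) → (∀ s, ∀ x : Fin 4, x.val < i ∨ i + k ≤ x.val → θ (φ' s) ∈ fixV (ev x)) →
      φ.range ≤ (f.comp (embU hq (iv i hi))).range := by
    rintro m k i hi φ φ' h1 h2 _ ⟨s, rfl⟩
    obtain ⟨u, hu⟩ := mem_range_iv hq hi (h2 s)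
    exact ⟨u, by rw [MonoidHom.comp_apply, hu, ft, h1]⟩
  have tt : ∀ s, τ' (upU hq s) = τ (loU hq s) := fun s => hi (by rw [t, t', e'])
  obtain ⟨d, hd, α, m0, m1, m2⟩ := exists_match hq (f := f)
    (fun c hc => by rw [fi (hc.trans (map_one f).symm)]; exact one_mem _)
    ((range_eq_of_le' h.inj_up (key _ _ (τ.comp (upU hq)) (fun s => t _) fun s x hx => by
      fin_cases x <;> simp at hx
      exacts [k3 s, k1 _])).symm.trans h.rA)
    ((range_eq_of_le' h.inj_lo (key _ _ (τ.comp (loU hq)) (fun s => t _) fun s x hx => by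
      fin_cases x <;> simp at hx
      exacts [(MonoidHom.comp_apply _ _ _).trans (tt s).symm ▸ k2 _, k1 _])).symm.trans h.rB)
    ((range_eq_of_le' h'.inj_lo (key _ _ (τ'.comp (loU hq)) (fun s => t' _) fun s x hx => by
      fin_cases x <;> simp at hx
      exacts [k2 _, k4 s])).symm.trans h'.rB) h h' e
  let β := ((suMapEquiv 4 2 α).trans (dgU hq d hd)).toMonoidHom
  have fin : ∀ (i : ℕ) (hi : i + 3 ≤ 4) (φ : SU 3 F 2 →* G),
      φ.range ≤ (f.comp (embU hq (iv i hi))).range →
      (∀ s, f (β (embU hq (iv i (by omega)) s)) = φ (upU hq s)) →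
      (∀ s, f (β (embU hq (iv (i + 1) (by omega)) s)) = φ (loU hq s)) →
      (f.comp β).comp (embU hq (iv i hi)) = φ := fun i hi φ h1 h2 h3 => by
    refine (rigid hq ((fi.comp (MulEquiv.injective _)).comp (embU_injective hq _))
      (h1.trans ?_) (fun s => ?_) fun s => ?_).symm
    · rintro _ ⟨s, rfl⟩
      obtain ⟨u, rfl⟩ := ((suMapEquiv 3 2 α).trans
        (dgU hq (d ∘ iv i hi) fun _ => hd _)).surjective s
      exact ⟨u, by simp [β, suMapEquiv_embU, dgU_embU]⟩
    · rw [← h2, MonoidHom.comp_apply (f.comp β), embU_embU, iv_trans]; rfl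
    · rw [← h3, MonoidHom.comp_apply (f.comp β), embU_embU, iv_trans]; rfl
  refine ⟨f.comp β, fin 0 _ ρ (key _ _ τ t fun s x hx => ?_) m0 m1,
    fin 1 _ ρ' (key _ _ τ' t' fun s x hx => ?_) (fun s => (m1 s).trans (e' s).symm) m2⟩
  · fin_cases x <;> simp at hx
    exact k1 s
  · fin_cases x <;> simp at hx
    exact k2 s

end Cfsg.Agent.Phan
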